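import Mathlib

/-!
The degree equations of the principal 2-block for Janko's first group.
-/

set_option autoImplicit false

namespace Cfsg.Agent.Char.JankoOne

/-- A binary search for the square root. -/
def isqGo (d : ℕ) : ℕ → ℕ → ℕ → ℕ
  | 0, lo, _ => lo
  | fuel + 1, lo, hi =>
    if lo + 1 < hi then
      if (lo + hi) / 2 * ((lo + hi) / 2) ≤ d then isqGo d fuel ((lo + hi) / 2) hi
      else isqGo d fuel lo ((lo + hi) / 2)
    else lo

/-- The square root of a number that is a square below `2 ^ 128`. -/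
def isq (d : ℕ) : ℕ := if d < 2 ^ 128 then isqGo d 65 0 (2 ^ 65) else Nat.sqrt d

theorem isqGo_eq (r : ℕ) : ∀ fuel lo hi : ℕ, lo ≤ r → r < hi → hi ≤ lo + 2 ^ fuel →
    isqGo (r * r) fuel lo hi = r
  | 0, lo, hi, h1, h2, h3 => by simp only [isqGo]; omega
  | fuel + 1, lo, hi, h1, h2, h3 => by
    have e : 2 ^ (fuel + 1) = 2 * 2 ^ fuel := by rw [pow_succ]; ring
    simp only [isqGo]
    split_ifs with h h'
    · exact isqGo_eq r fuel _ hi (Nat.mul_self_le_mul_self_iff.1 h') h2 (by omega)
    · refine isqGo_eq r fuel lo _ h1 ?_ (by omega)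
      by_contra hc
      exact h' (Nat.mul_self_le_mul_self (by omega))
    · omega

theorem isq_eq (r : ℕ) : isq (r * r) = r := by
  unfold isq
  split_ifs with h
  · refine isqGo_eq r _ _ _ (Nat.zero_le _) ?_ (by omega)
    by_contra hc
    have := Nat.mul_self_le_mul_self (not_lt.1 hc)
    omega
  · exact Nat.sqrt_eq r

/-- Candidates for the integral roots of a quadratic. -/
def roots (a b c : ℤ) : List ℤ :=
  if a = 0 then [-c / b]
  else [(-b + (isq (b * b - 4 * a * c).toNat : ℤ)) / (2 * a),
    (-b - (isq (b * b - 4 * a * c).toNat : ℤ)) / (2 * a)]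

theorem mem_roots {a b c x : ℤ} (h : a * x * x + b * x + c = 0) (hne : a ≠ 0 ∨ b ≠ 0) :
    x ∈ roots a b c := by
  unfold roots
  split_ifs with ha
  · subst ha
    have hb : b ≠ 0 := hne.resolve_left (fun h => h rfl)
    simp only [List.mem_singleton]
    rw [show -c = b * x by linarith, Int.mul_ediv_cancel_left _ hb]
  · have hd : (b * b - 4 * a * c).toNat = (2 * a * x + b).natAbs * (2 * a * x + b).natAbs := by
      have : b * b - 4 * a * c = (2 * a * x + b) * (2 * a * x + b) := by linear_combination (-4 * a) * h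
      rw [this, ← Int.natAbs_mul_self]
      exact Int.toNat_natCast _
    rw [hd, isq_eq]
    have h2a : (2 * a : ℤ) ≠ 0 := mul_ne_zero two_ne_zero ha
    rcases Int.natAbs_eq (2 * a * x + b) with he | he
    · refine List.mem_cons.2 (.inl ?_)
      rw [show -b + ((2 * a * x + b).natAbs : ℤ) = 2 * a * x by rw [← he]; ring,
        Int.mul_ediv_cancel_left _ h2a]
    · refine List.mem_cons.2 (.inr (List.mem_singleton.2 ?_))
      rw [show -b - ((2 * a * x + b).natAbs : ℤ) = 2 * a * x by linarith,
        Int.mul_ediv_cancel_left _ h2a]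

/-- A signed degree of a character with value `t` (of the sign of the degree) at an involution. -/
def Adm (t X : ℤ) : Prop := X % 8 = t ∧ (t < X ∨ X ≤ -(7 * t))

instance (t X : ℤ) : Decidable (Adm t X) := inferInstanceAs (Decidable (_ ∧ _))

/-- The residues `r` modulo eight between `-S` and `S`. -/
def steps (r : ℤ) (S : ℕ) : List ℤ :=
  (List.range (2 * (S / 8) + 4)).map fun k : ℕ => r + 8 * ((k : ℤ) - (S / 8 + 2 : ℕ))

theorem mem_steps {r x : ℤ} {S : ℕ} (hr : 0 ≤ r ∧ r < 8) (hx : x % 8 = r) (hS : x.natAbs ≤ S) :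
    x ∈ steps r S := by
  refine List.mem_map.2 ⟨(x / 8 + (S / 8 + 2 : ℕ)).toNat, List.mem_range.2 ?_, ?_⟩
  · omega
  · omega

/-- The quotient of `P`, `Q` against the order. -/
def ordDen (A B C D : ℤ) : ℤ := (A + B) * (25 * (C * D) - 9 * (A * B))

/-- The four unordered forms of the two solutions. -/
def Known (A B C D : ℤ) : Prop :=
  ((A = 77 ∧ B = 133 ∨ A = 133 ∧ B = 77) ∧ (C = -77 ∧ D = -133 ∨ C = -133 ∧ D = -77)) ∨
  ((A = 21 ∧ B = -35 ∨ A = -35 ∧ B = 21) ∧ (C = 35 ∧ D = -21 ∨ C = -21 ∧ D = 35))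

instance (A B C D : ℤ) : Decidable (Known A B C D) := inferInstanceAs (Decidable (_ ∨ _))

/-- The conditions on a solution. -/
def Cond (A B C D : ℤ) : Prop :=
  Adm 5 A ∧ Adm 5 B ∧ Adm 3 C ∧ Adm 3 D ∧ Adm 1 (A + B - 1) ∧ A + B + C + D = 0 ∧
  (A + B - 1) * (125 * (C * D) - 27 * (A * B)) = 2 * (A * B) * (C * D) ∧
  ordDen A B C D ≠ 0 ∧ 57600 * (A * B) * (C * D) % ordDen A B C D = 0

instance (A B C D : ℤ) : Decidable (Cond A B C D) := inferInstanceAs (Decidable (_ ∧ _))

/-- A test of one tuple. -/
def okT (A B C D : ℤ) : Bool := !decide (Cond A B C D) || decide (Known A B C D)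

theorem known_of_okT {A B C D : ℤ} (h : okT A B C D = true) (hc : Cond A B C D) : Known A B C D := by
  simpa [okT, hc] using h

/-- The bound that goes with a small first degree. -/
def boundA (A : ℤ) : ℕ := 181 * A.natAbs / (2 * A - 125).natAbs + 1

/-- The bound that goes with a small third degree. -/
def boundC (C : ℤ) : ℕ := 279 * C.natAbs / (2 * C - 27).natAbs + 1

/-- Test of the sums `s` for a given first degree. -/
def scanA (A : ℤ) : Bool :=
  (steps 2 (A.natAbs + boundA A + 1)).all fun s =>
    (roots 1 s (27 * (A * (s - A)) * (s - 1) / (125 * (s - 1) - 2 * (A * (s - A))))).all fun C =>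
      okT A (s - A) C (-s - C)

/-- Test of the sums `s` for a given third degree. -/
def scanC (C : ℤ) : Bool :=
  (steps 2 (C.natAbs + boundC C + 1)).all fun s =>
    (roots 1 (-s) (125 * (C * (-s - C)) * (s - 1) / (27 * (s - 1) + 2 * (C * (-s - C))))).all fun A =>
      okT A (s - A) C (-s - C)

/-- Test of a pair of a first and a third degree. -/
def pairT (A C : ℤ) : Bool :=
  let u := -125 * C - 27 * A
  let w := -125 * C * C + 27 * A * A
  let a2 := u + 2 * A * C
  let a1 := w - u + 2 * A * C * (C - A)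
  let a0 := -w - 2 * A * A * C * C
  !(a2 == 0 && a1 == 0 && a0 == 0) &&
    (roots a2 a1 a0).all fun s => okT A (s - A) C (-s - C)

/-- All tests for a first degree. -/
def testA (A : ℤ) : Bool :=
  scanA A && ((steps 3 (boundA A)).filter fun C => decide (Adm 3 C)).all fun C => pairT A C

/-- All tests for a third degree. -/
def testC (C : ℤ) : Bool :=
  scanC C && ((steps 5 (boundC C)).filter fun A => decide (Adm 5 A)).all fun A => pairT A C

theorem testA_all : ((steps 5 200).filter fun A => decide (Adm 5 A)).all testA = true := by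
  decide +kernel

theorem testC_all : ((steps 3 130).filter fun C => decide (Adm 3 C)).all testC = true := by
  decide +kernel

end Cfsg.Agent.Char.JankoOne
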