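import Mathlib

/-!
Estimates for sums of reciprocals of integers.
-/

set_option autoImplicit false

namespace Cfsg.Agent.Char.JankoOne

/-- A bound for a term with denominator at least `N`. -/
theorem abs_div_le {c : ℕ} {X : ℤ} {N : ℕ} (hN : 0 < N) (hX : N ≤ X.natAbs) :
    |(c : ℚ) / X| ≤ c / N := by
  rw [abs_div, Nat.abs_cast]
  refine div_le_div_of_nonneg_left (Nat.cast_nonneg c) (Nat.cast_pos.2 hN) ?_
  rw [← Int.cast_abs, Int.abs_eq_natAbs]
  exact_mod_cast hX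

/-- A remainder `2 - c / X` that equals small terms forces a small bound. -/
theorem rem_bound {c k N : ℕ} {X : ℤ} (hX : X ≠ 0) (hN : 0 < N) {R : ℚ}
    (hR : (2 : ℚ) - c / X = R) (hle : |R| ≤ k / N)
    (hbig : k * X.natAbs < N * (2 * X - c).natAbs) : False := by
  have hXq : (X : ℚ) ≠ 0 := by exact_mod_cast hX
  have hNq : (N : ℚ) ≠ 0 := by exact_mod_cast hN.ne'
  have hb : (k : ℚ) * |(X : ℚ)| < (N : ℚ) * |2 * (X : ℚ) - c| := by
    have h : ((k * X.natAbs : ℕ) : ℚ) < ((N * (2 * X - c).natAbs : ℕ) : ℚ) := by exact_mod_cast hbig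
    push_cast [Nat.cast_natAbs, Int.cast_abs] at h
    exact h
  have hR' : |R| * |(X : ℚ)| = |2 * (X : ℚ) - c| := by
    rw [← abs_mul, ← hR, sub_mul, div_mul_cancel₀ _ hXq]
  have hXpos : 0 < |(X : ℚ)| := abs_pos.2 hXq
  have h1 : |R| * |(X : ℚ)| * N ≤ (k : ℚ) / N * |(X : ℚ)| * N := by gcongr
  rw [hR'] at h1
  rw [show (k : ℚ) / N * |(X : ℚ)| * N = k * |(X : ℚ)| by field_simp] at h1
  linarith

end Cfsg.Agent.Char.JankoOne
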