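import Cfsg.Agent.Lib.Char.JankoOne.Arith
import Cfsg.Agent.Lib.Char.JankoOne.ArithTools

/-!
The two solutions of the degree equations.
-/

set_option autoImplicit false

namespace Cfsg.Agent.Char.JankoOne

theorem Adm.ne {t X : ℤ} (ht : 0 < t ∧ t < 8) (h : Adm t X) : X ≠ 0 := by
  rintro rfl
  have := h.1
  omega

theorem natAbs_sub_ne {X : ℤ} {c : ℕ} (hc : c % 2 = 1) : 0 < (2 * X - c).natAbs := by omega

theorem lt_mul_bound {k x d : ℕ} (hd : 0 < d) : k * x < (k * x / d + 1) * d :=
  Nat.lt_mul_of_div_lt (Nat.lt_succ_self _) hd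

theorem pairT_sound {A C s : ℤ} (hT : pairT A C = true) (hc : Cond A (s - A) C (-s - C)) :
    Known A (s - A) C (-s - C) := by
  simp only [pairT, Bool.and_eq_true, Bool.not_eq_true', List.all_eq_true, Bool.and_eq_false_iff,
    beq_eq_false_iff_ne] at hT
  set u := -125 * C - 27 * A with hu
  set w := -125 * C * C + 27 * A * A with hw
  have hq : (u + 2 * A * C) * s * s + (w - u + 2 * A * C * (C - A)) * s +
      (-w - 2 * A * A * C * C) = 0 := by
    have h := hc.2.2.2.2.2.2.1
    simp only [add_sub_cancel] at h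
    rw [hu, hw]
    linear_combination h
  refine known_of_okT (hT.2 s (mem_roots hq ?_)) hc
  by_contra hne
  push Not at hne
  rcases hT.1 with (h | h) | h
  · exact h hne.1
  · exact h hne.2
  · rw [hne.1, hne.2] at hq
    exact h (by simpa using hq)

/-- The five term equation from the product equation. -/
theorem five_terms {A B C D : ℤ} (hA : A ≠ 0) (hB : B ≠ 0) (hC : C ≠ 0) (hD : D ≠ 0)
    (hE : A + B - 1 ≠ 0) (h4 : A + B + C + D = 0)
    (heq : (A + B - 1) * (125 * (C * D) - 27 * (A * B)) = 2 * (A * B) * (C * D)) :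
    (125 : ℚ) / A + 125 / B + 27 / C + 27 / D - 2 / ((A + B - 1 : ℤ) : ℚ) = 2 := by
  have hEq : ((A + B - 1 : ℤ) : ℚ) ≠ 0 := by exact_mod_cast hE
  have hA' : (A : ℚ) ≠ 0 := by exact_mod_cast hA
  have hB' : (B : ℚ) ≠ 0 := by exact_mod_cast hB
  have hC' : (C : ℚ) ≠ 0 := by exact_mod_cast hC
  have hD' : (D : ℚ) ≠ 0 := by exact_mod_cast hD
  have hD4 : (D : ℚ) = -(A + B) - C := by
    have : (A : ℚ) + B + C + D = 0 := by exact_mod_cast h4
    linarith
  have hq : ((A : ℚ) + B - 1) * (125 * (C * D) - 27 * (A * B)) = 2 * (A * B) * (C * D) := by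
    exact_mod_cast heq
  push_cast at hEq ⊢
  rw [hD4] at hq hD' ⊢
  field_simp
  linear_combination ((A : ℚ) + B) * hq

/-- The solutions with a small first degree. -/
theorem smallA {A B C D : ℤ} (hc : Cond A B C D) (hA : A.natAbs < 200) : Known A B C D := by
  obtain ⟨s, rfl⟩ : ∃ s, B = s - A := ⟨A + B, by ring⟩
  have hD4 : D = -s - C := by linarith [hc.2.2.2.2.2.1]
  subst hD4
  have hne := fun {t X : ℤ} (h : Adm t X) (ht : 0 < t ∧ t < 8) => h.ne ht
  have hA0 := hne hc.1 (by norm_num)
  have hB0 := hne hc.2.1 (by norm_num)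
  have hC0 := hne hc.2.2.1 (by norm_num)
  have hD0 := hne hc.2.2.2.1 (by norm_num)
  have hE0 := hne hc.2.2.2.2.1 (by norm_num)
  have hmem : A ∈ (steps 5 200).filter fun A => decide (Adm 5 A) :=
    List.mem_filter.2 ⟨mem_steps (by norm_num) hc.1.1 hA.le, decide_eq_true hc.1⟩
  have hT := List.all_eq_true.1 testA_all A hmem
  simp only [testA, Bool.and_eq_true, List.all_eq_true] at hT
  obtain ⟨hscan, hpair⟩ := hT
  have hs8 : s % 8 = 2 := by
    have h1 := hc.1.1
    have h2 := hc.2.1.1
    omega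
  by_cases hs : s.natAbs ≤ A.natAbs + boundA A + 1
  · simp only [scanA, List.all_eq_true] at hscan
    refine known_of_okT (hscan s (mem_steps (by norm_num) hs8 hs) C (mem_roots ?_ (Or.inr (by omega)))) hc
    have h := hc.2.2.2.2.2.2.1
    simp only [add_sub_cancel] at h hE0
    set E := s - 1
    set P := A * (s - A)
    have hden : 125 * E - 2 * P ≠ 0 := by
      intro h0
      have : 27 * (E * P) = 0 := by linear_combination -h + (C * (-s - C)) * h0
      simp only [mul_eq_zero, OfNat.ofNat_ne_zero, false_or] at this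
      rcases this with h1 | h1
      · exact hE0 h1
      · exact (mul_ne_zero hA0 hB0) h1
    rw [show 27 * P * E = C * (-s - C) * (125 * E - 2 * P) by linear_combination -h,
      Int.mul_ediv_cancel _ hden]
    ring
  · have hN : 0 < boundA A := Nat.succ_pos _
    by_cases hC : C.natAbs ≤ boundA A
    · exact pairT_sound (hpair C (List.mem_filter.2 ⟨mem_steps (by norm_num) hc.2.2.1.1 hC,
        decide_eq_true hc.2.2.1⟩)) hc
    by_cases hD : (-s - C).natAbs ≤ boundA A
    · have hc' : Cond A (s - A) (-s - C) (-s - (-s - C)) := by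
        obtain ⟨a1, a2, a3, a4, a5, a6, a7, a8, a9⟩ := hc
        rw [sub_sub_cancel]
        exact ⟨a1, a2, a4, a3, a5, by linarith, by linear_combination a7,
          by rwa [ordDen, mul_comm (-s - C) C], by rwa [ordDen, mul_comm (-s - C) C]⟩
      have hk := pairT_sound (hpair (-s - C) (List.mem_filter.2
        ⟨mem_steps (by norm_num) hc.2.2.2.1.1 hD, decide_eq_true hc.2.2.2.1⟩)) hc'
      rw [sub_sub_cancel] at hk
      unfold Known at hk ⊢
      tauto
    exfalso
    have h5 := five_terms hA0 hB0 hC0 hD0 hE0 hc.2.2.2.2.2.1 hc.2.2.2.2.2.2.1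
    refine rem_bound (c := 125) (k := 181) hA0 hN (R := (125 : ℚ) / ((s - A : ℤ) : ℚ) +
      (27 : ℚ) / (C : ℚ) + (27 : ℚ) / ((-s - C : ℤ) : ℚ) - (2 : ℚ) / ((A + (s - A) - 1 : ℤ) : ℚ))
      (by push_cast at h5 ⊢; linarith) ?_ (lt_mul_bound (natAbs_sub_ne (by norm_num)))
    refine le_trans (abs_sub _ _) ?_
    refine le_trans (add_le_add (abs_add_three _ _ _) le_rfl) ?_
    have e1 := abs_div_le (c := 125) (X := s - A) hN (by omega)
    have e2 := abs_div_le (c := 27) (X := C) hN (by omega)
    have e3 := abs_div_le (c := 27) (X := -s - C) hN (by omega)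
    have e4 := abs_div_le (c := 2) (X := A + (s - A) - 1) hN (by omega)
    rw [show ((181 : ℕ) : ℚ) / (boundA A : ℚ) = (125 : ℚ) / boundA A + 27 / boundA A + 27 / boundA A +
      2 / boundA A by push_cast; ring]
    push_cast at e1 e2 e3 e4 ⊢
    linarith

/-- The solutions with a small third degree. -/
theorem smallC {A B C D : ℤ} (hc : Cond A B C D) (hC : C.natAbs < 130) : Known A B C D := by
  obtain ⟨s, rfl⟩ : ∃ s, B = s - A := ⟨A + B, by ring⟩
  have hD4 : D = -s - C := by linarith [hc.2.2.2.2.2.1]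
  subst hD4
  have hA0 := hc.1.ne (by norm_num)
  have hB0 := hc.2.1.ne (by norm_num)
  have hC0 := hc.2.2.1.ne (by norm_num)
  have hD0 := hc.2.2.2.1.ne (by norm_num)
  have hE0 := hc.2.2.2.2.1.ne (by norm_num)
  have hmem : C ∈ (steps 3 130).filter fun C => decide (Adm 3 C) :=
    List.mem_filter.2 ⟨mem_steps (by norm_num) hc.2.2.1.1 hC.le, decide_eq_true hc.2.2.1⟩
  have hT := List.all_eq_true.1 testC_all C hmem
  simp only [testC, Bool.and_eq_true, List.all_eq_true] at hT
  obtain ⟨hscan, hpair⟩ := hT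
  have hs8 : s % 8 = 2 := by
    have h1 := hc.1.1
    have h2 := hc.2.1.1
    omega
  by_cases hs : s.natAbs ≤ C.natAbs + boundC C + 1
  · simp only [scanC, List.all_eq_true] at hscan
    refine known_of_okT (hscan s (mem_steps (by norm_num) hs8 hs) A (mem_roots ?_ (Or.inl one_ne_zero))) hc
    have h := hc.2.2.2.2.2.2.1
    simp only [add_sub_cancel] at h hE0
    set E := s - 1
    set Q := C * (-s - C)
    have hden : 27 * E + 2 * Q ≠ 0 := by
      intro h0
      have : 125 * (E * Q) = 0 := by linear_combination h + (A * (s - A)) * h0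
      simp only [mul_eq_zero, OfNat.ofNat_ne_zero, false_or] at this
      rcases this with h1 | h1
      · exact hE0 h1
      · exact (mul_ne_zero hC0 hD0) h1
    rw [show 125 * Q * E = A * (s - A) * (27 * E + 2 * Q) by linear_combination h,
      Int.mul_ediv_cancel _ hden]
    ring
  · have hN : 0 < boundC C := Nat.succ_pos _
    by_cases hA : A.natAbs ≤ boundC C
    · exact pairT_sound (hpair A (List.mem_filter.2 ⟨mem_steps (by norm_num) hc.1.1 hA,
        decide_eq_true hc.1⟩)) hc
    by_cases hB : (s - A).natAbs ≤ boundC C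
    · have hc' : Cond (s - A) (s - (s - A)) C (-s - C) := by
        obtain ⟨a1, a2, a3, a4, a5, a6, a7, a8, a9⟩ := hc
        have hord : ordDen (s - A) A C (-s - C) = ordDen A (s - A) C (-s - C) := by
          simp only [ordDen]; ring
        rw [sub_sub_cancel]
        refine ⟨a2, a1, a3, a4, by rwa [add_comm (s - A) A], by linarith, by linear_combination a7,
          hord ▸ a8, ?_⟩
        rw [hord, show (s - A) * A = A * (s - A) by ring]
        exact a9
      have hk := pairT_sound (hpair (s - A) (List.mem_filter.2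
        ⟨mem_steps (by norm_num) hc.2.1.1 hB, decide_eq_true hc.2.1⟩)) hc'
      rw [sub_sub_cancel] at hk
      unfold Known at hk ⊢
      tauto
    exfalso
    have h5 := five_terms hA0 hB0 hC0 hD0 hE0 hc.2.2.2.2.2.1 hc.2.2.2.2.2.2.1
    refine rem_bound (c := 27) (k := 279) hC0 hN (R := (125 : ℚ) / (A : ℚ) +
      (125 : ℚ) / ((s - A : ℤ) : ℚ) + (27 : ℚ) / ((-s - C : ℤ) : ℚ) -
      (2 : ℚ) / ((A + (s - A) - 1 : ℤ) : ℚ))
      (by push_cast at h5 ⊢; linarith) ?_ (lt_mul_bound (natAbs_sub_ne (by norm_num)))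
    refine le_trans (abs_sub _ _) ?_
    refine le_trans (add_le_add (abs_add_three _ _ _) le_rfl) ?_
    have e1 := abs_div_le (c := 125) (X := A) hN (by omega)
    have e2 := abs_div_le (c := 125) (X := s - A) hN (by omega)
    have e3 := abs_div_le (c := 27) (X := -s - C) hN (by omega)
    have e4 := abs_div_le (c := 2) (X := A + (s - A) - 1) hN (by omega)
    rw [show ((279 : ℕ) : ℚ) / (boundC C : ℚ) = (125 : ℚ) / boundC C + 125 / boundC C + 27 / boundC C +
      2 / boundC C by push_cast; ring]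
    push_cast at e1 e2 e3 e4 ⊢
    linarith

theorem known_of_cond {A B C D : ℤ} (hc : Cond A B C D) : Known A B C D := by
  obtain ⟨a1, a2, a3, a4, a5, a6, a7, a8, a9⟩ := hc
  by_cases hA : A.natAbs < 200
  · exact smallA ⟨a1, a2, a3, a4, a5, a6, a7, a8, a9⟩ hA
  by_cases hB : B.natAbs < 200
  · have hord : ordDen B A C D = ordDen A B C D := by simp only [ordDen]; ring
    have hk := smallA (A := B) (B := A) (C := C) (D := D) ⟨a2, a1, a3, a4, by rwa [add_comm B A],
      by linarith, by linear_combination a7, hord ▸ a8, by rw [hord, mul_comm B A]; exact a9⟩ hB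
    unfold Known at hk ⊢
    tauto
  by_cases hC : C.natAbs < 130
  · exact smallC ⟨a1, a2, a3, a4, a5, a6, a7, a8, a9⟩ hC
  by_cases hD : D.natAbs < 130
  · have hord : ordDen A B D C = ordDen A B C D := by simp only [ordDen]; ring
    have hk := smallC (A := A) (B := B) (C := D) (D := C) ⟨a1, a2, a4, a3, a5,
      by linarith, by linear_combination a7, hord ▸ a8, by rw [hord, mul_comm D C]; exact a9⟩ hD
    unfold Known at hk ⊢
    tauto
  exfalso
  have h5 := five_terms (a1.ne (by norm_num)) (a2.ne (by norm_num)) (a3.ne (by norm_num))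
    (a4.ne (by norm_num)) (a5.ne (by norm_num)) a6 a7
  have e1 := abs_div_le (c := 125) (X := A) (N := 200) (by norm_num) (by omega)
  have e2 := abs_div_le (c := 125) (X := B) (N := 200) (by norm_num) (by omega)
  have e3 := abs_div_le (c := 27) (X := C) (N := 130) (by norm_num) (by omega)
  have e4 := abs_div_le (c := 27) (X := D) (N := 130) (by norm_num) (by omega)
  have e5 := abs_div_le (c := 2) (X := A + B - 1) (N := 7) (by norm_num) (by
    rcases a5.2 with h | h <;> have := a5.1 <;> omega)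
  push_cast at e1 e2 e3 e4 e5 h5
  rw [abs_le] at e1 e2 e3 e4 e5
  linarith [e1.2, e2.2, e3.2, e4.2, e5.1]

/-- Either the order of Janko's group, or the exceptional degrees. -/
theorem standard_solution {A B C D E : ℤ} (hA : Adm 5 A) (hB : Adm 5 B) (hC : Adm 3 C) (hD : Adm 3 D)
    (hE : Adm 1 E) (h4 : A + B + C + D = 0) (hE' : 1 + E + C + D = 0) (g : ℕ)
    (h14 : (g : ℚ) * (1 + 25 / A + 25 / B + 18 / C + 18 / D + 1 / E) = 14 * 14400)
    (h44 : (g : ℚ) * (25 / A + 25 / B + 9 / C + 9 / D) = 4 * 14400) :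
    g = 175560 ∨ ((A = 21 ∧ B = -35 ∨ A = -35 ∧ B = 21) ∧
      (C = 35 ∧ D = -21 ∨ C = -21 ∧ D = 35)) := by
  have hEs : E = A + B - 1 := by linarith
  subst hEs
  have hA' : (A : ℚ) ≠ 0 := by exact_mod_cast hA.ne (by norm_num)
  have hB' : (B : ℚ) ≠ 0 := by exact_mod_cast hB.ne (by norm_num)
  have hC' : (C : ℚ) ≠ 0 := by exact_mod_cast hC.ne (by norm_num)
  have hD' : (D : ℚ) ≠ 0 := by exact_mod_cast hD.ne (by norm_num)
  have hEq : ((A + B - 1 : ℤ) : ℚ) ≠ 0 := by exact_mod_cast hE.ne (by norm_num)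
  push_cast at h14 hEq
  have hD4 : (D : ℚ) = -(A + B) - C := by
    have : (A : ℚ) + B + C + D = 0 := by exact_mod_cast h4
    linarith
  have hs0 : (A + B : ℚ) ≠ 0 := by
    have : A + B ≠ 0 := by
      have := hA.1
      have := hB.1
      omega
    exact_mod_cast this
  have hg0 : (g : ℚ) ≠ 0 := by
    intro h
    rw [h, zero_mul] at h44
    norm_num at h44
  have hlin : (2 : ℚ) - 125 / A - 125 / B - 27 / C - 27 / D + 2 / (A + B - 1) = 0 := by
    refine (mul_eq_zero.1 ?_).resolve_left hg0
    linear_combination (2 : ℚ) * h14 - 7 * h44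
  have heq : ((A : ℚ) + B - 1) * (125 * (C * D) - 27 * (A * B)) = 2 * (A * B) * (C * D) := by
    rw [hD4] at hlin hD' ⊢
    field_simp at hlin
    exact mul_left_cancel₀ hs0 (by linear_combination -hlin)
  have hord : (g : ℤ) * ordDen A B C D = 57600 * (A * B) * (C * D) := by
    have : (g : ℚ) * ((A + B) * (25 * (C * D) - 9 * (A * B))) = 57600 * (A * B) * (C * D) := by
      rw [hD4] at h44 hD' ⊢
      field_simp at h44
      linear_combination h44
    simp only [ordDen]
    exact_mod_cast this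
  have hne : ordDen A B C D ≠ 0 := by
    intro h
    rw [h, mul_zero] at hord
    have := mul_ne_zero (mul_ne_zero (show (57600 : ℤ) ≠ 0 by norm_num)
      (mul_ne_zero (hA.ne (by norm_num)) (hB.ne (by norm_num))))
      (mul_ne_zero (hC.ne (by norm_num)) (hD.ne (by norm_num)))
    exact this hord.symm
  have hk := known_of_cond (A := A) (B := B) (C := C) (D := D)
    ⟨hA, hB, hC, hD, hE, h4, by exact_mod_cast heq, hne, by rw [← hord, Int.mul_emod_left]⟩
  rcases hk with hk | hk
  · refine Or.inl ?_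
    obtain ⟨hAB, hCD⟩ := hk
    rcases hAB with ⟨rfl, rfl⟩ | ⟨rfl, rfl⟩ <;> rcases hCD with ⟨rfl, rfl⟩ | ⟨rfl, rfl⟩ <;>
      norm_num [ordDen] at hord <;> omega
  · exact Or.inr hk

end Cfsg.Agent.Char.JankoOne
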