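import Cfsg.Agent.Lib.Char.JankoOne.Arith
import Cfsg.Agent.Lib.Char.JankoOne.ArithTools

/-!
The degree equations of the exceptional arrangement of the rows have no solution.
-/

set_option autoImplicit false

namespace Cfsg.Agent.Char.JankoOne

/-- The conditions of the exceptional arrangement. -/
def CondTwo (a c f : ℤ) : Prop :=
  Adm 2 a ∧ Adm 3 c ∧ Adm 5 (1 - 2 * a) ∧ Adm 6 f ∧ c + f = a - 1 ∧
  28 * (c * (1 - 2 * a) * f) + 27 * (a * (1 - 2 * a) * f) + 125 * (a * c * f) +
    108 * (a * c * (1 - 2 * a)) = 2 * (a * c * (1 - 2 * a) * f)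

instance (a c f : ℤ) : Decidable (CondTwo a c f) := inferInstanceAs (Decidable (_ ∧ _))

/-- Test for a small first degree. -/
def twoA (a : ℤ) : Bool :=
  let e := 1 - 2 * a
  let n := 2 * a * e - 28 * e - 125 * a
  let S := a - 1
  !(-n == 0 && n * S - 81 * a * e == 0) &&
    (roots (-n) (n * S - 81 * a * e) (-27 * S * a * e)).all fun c => !decide (CondTwo a c (S - c))

/-- The bound for a small second degree. -/
def boundTwoC (c : ℤ) : ℕ := 200 * c.natAbs / (2 * c - 27).natAbs + 1

/-- The bound for a small last degree. -/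
def boundTwoF (f : ℤ) : ℕ :=
  if f = 54 then 300 else 120 * f.natAbs / (2 * f - 108).natAbs + 1

/-- Test for a small second degree. -/
def twoC (c : ℤ) : Bool :=
  (steps 2 (c.natAbs + boundTwoC c + 1)).all fun a => !decide (CondTwo a c (a - 1 - c))

/-- Test for a small last degree. -/
def twoF (f : ℤ) : Bool :=
  (steps 2 (f.natAbs + boundTwoF f + 1)).all fun a => !decide (CondTwo a (a - 1 - f) f)

theorem twoA_all : ((steps 2 100).filter fun a => decide (Adm 2 a)).all twoA = true := by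
  decide +kernel

theorem twoC_all : ((steps 3 90).filter fun c => decide (Adm 3 c)).all twoC = true := by
  decide +kernel

theorem twoF_all : ((steps 6 150).filter fun f => decide (Adm 6 f)).all twoF = true := by
  decide +kernel

theorem not_condTwo {a c f : ℤ} (h : CondTwo a c f) : False := by
  obtain ⟨ha, hc, he, hf, hsum, heq⟩ := h
  have ha0 : a ≠ 0 := by rintro rfl; simp [Adm] at ha
  have hc0 : c ≠ 0 := by rintro rfl; simp [Adm] at hc
  have hf0 : f ≠ 0 := by rintro rfl; simp [Adm] at hf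
  have he0 : 1 - 2 * a ≠ 0 := by omega
  by_cases h1 : a.natAbs < 100
  · have hT := List.all_eq_true.1 twoA_all a
      (List.mem_filter.2 ⟨mem_steps (by norm_num) ha.1 h1.le, decide_eq_true ha⟩)
    simp only [twoA, Bool.and_eq_true, List.all_eq_true, Bool.not_eq_true', decide_eq_false_iff_not,
      Bool.and_eq_false_iff, beq_eq_false_iff_ne] at hT
    obtain rfl : f = a - 1 - c := by linarith
    exact hT.2 c (mem_roots (by linear_combination -heq) hT.1)
      ⟨ha, hc, he, hf, hsum, heq⟩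
  have heq' : (28 : ℚ) / a + 27 / c + 125 / ((1 - 2 * a : ℤ) : ℚ) + 108 / f = 2 := by
    have h' : (28 : ℚ) * (c * ((1 - 2 * a : ℤ) : ℚ) * f) + 27 * (a * ((1 - 2 * a : ℤ) : ℚ) * f) +
        125 * (a * c * f) + 108 * (a * c * ((1 - 2 * a : ℤ) : ℚ)) =
        2 * (a * c * ((1 - 2 * a : ℤ) : ℚ) * f) := by exact_mod_cast heq
    have := (Int.cast_ne_zero (α := ℚ)).2 ha0
    have := (Int.cast_ne_zero (α := ℚ)).2 hc0
    have := (Int.cast_ne_zero (α := ℚ)).2 hf0
    have := (Int.cast_ne_zero (α := ℚ)).2 he0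
    generalize ((1 - 2 * a : ℤ) : ℚ) = e at *
    field_simp
    linear_combination h'
  by_cases h2 : c.natAbs < 90
  · have hT := List.all_eq_true.1 twoC_all c
      (List.mem_filter.2 ⟨mem_steps (by norm_num) hc.1 h2.le, decide_eq_true hc⟩)
    simp only [twoC, List.all_eq_true, Bool.not_eq_true', decide_eq_false_iff_not] at hT
    obtain rfl : f = a - 1 - c := by linarith
    by_cases h3 : a.natAbs ≤ c.natAbs + boundTwoC c + 1
    · exact hT a (mem_steps (by norm_num) ha.1 h3) ⟨ha, hc, he, hf, hsum, heq⟩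
    have hN : 0 < boundTwoC c := Nat.succ_pos _
    refine rem_bound (c := 27) (k := 200) hc0 hN (R := (28 : ℚ) / (a : ℚ) +
      (125 : ℚ) / ((1 - 2 * a : ℤ) : ℚ) + (108 : ℚ) / ((a - 1 - c : ℤ) : ℚ))
      (by push_cast at heq' ⊢; linarith) ?_ (Nat.lt_mul_of_div_lt (Nat.lt_succ_self _) (by omega))
    refine le_trans (abs_add_three _ _ _) ?_
    have e1 := abs_div_le (c := 28) (X := a) hN (by omega)
    have e2 := abs_div_le (c := 125) (X := 1 - 2 * a) (N := 2 * boundTwoC c) (by omega) (by omega)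
    have e3 := abs_div_le (c := 108) (X := a - 1 - c) hN (by omega)
    have e4 : (28 : ℚ) / boundTwoC c + 125 / ((2 * boundTwoC c : ℕ) : ℚ) + 108 / boundTwoC c ≤
        ((200 : ℕ) : ℚ) / boundTwoC c := by
      have : (0 : ℚ) < boundTwoC c := Nat.cast_pos.2 hN
      push_cast
      field_simp
      norm_num
    push_cast at e1 e2 e3 e4 ⊢
    linarith
  by_cases h4 : f.natAbs < 150
  · have hT := List.all_eq_true.1 twoF_all f
      (List.mem_filter.2 ⟨mem_steps (by norm_num) hf.1 h4.le, decide_eq_true hf⟩)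
    simp only [twoF, List.all_eq_true, Bool.not_eq_true', decide_eq_false_iff_not] at hT
    obtain rfl : c = a - 1 - f := by linarith
    by_cases h3 : a.natAbs ≤ f.natAbs + boundTwoF f + 1
    · exact hT a (mem_steps (by norm_num) ha.1 h3) ⟨ha, hc, he, hf, hsum, heq⟩
    rcases eq_or_ne f 54 with rfl | hf54
    · simp only [boundTwoF, if_true] at h3
      have h5 : 15 * a * a - 3740 * a - 1540 = 0 := by
        refine (mul_eq_zero.1 ?_).resolve_left (show (54 : ℤ) ≠ 0 by norm_num)
        linear_combination heq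
      rcases le_or_gt 300 a with h | h
      · nlinarith
      · have : a ≤ -300 := by omega
        nlinarith
    have hN : 0 < boundTwoF f := by simp [boundTwoF, hf54]
    have hbig : 120 * f.natAbs < boundTwoF f * (2 * f - ((108 : ℕ) : ℤ)).natAbs := by
      simp only [boundTwoF, if_neg hf54]
      exact Nat.lt_mul_of_div_lt (Nat.lt_succ_self _) (by omega)
    refine rem_bound (c := 108) (k := 120) hf0 hN (R := (28 : ℚ) / (a : ℚ) +
      (27 : ℚ) / ((a - 1 - f : ℤ) : ℚ) + (125 : ℚ) / ((1 - 2 * a : ℤ) : ℚ))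
      (by push_cast at heq' ⊢; linarith) ?_ hbig
    refine le_trans (abs_add_three _ _ _) ?_
    have e1 := abs_div_le (c := 28) (X := a) hN (by omega)
    have e2 := abs_div_le (c := 125) (X := 1 - 2 * a) (N := 2 * boundTwoF f) (by omega) (by omega)
    have e3 := abs_div_le (c := 27) (X := a - 1 - f) hN (by omega)
    have e4 : (28 : ℚ) / boundTwoF f + 27 / boundTwoF f + 125 / ((2 * boundTwoF f : ℕ) : ℚ) ≤
        ((120 : ℕ) : ℚ) / boundTwoF f := by
      have : (0 : ℚ) < boundTwoF f := Nat.cast_pos.2 hN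
      push_cast
      field_simp
      norm_num
    push_cast at e1 e2 e3 e4 ⊢
    linarith
  have e1 := abs_div_le (c := 28) (X := a) (N := 100) (by norm_num) (by omega)
  have e2 := abs_div_le (c := 27) (X := c) (N := 90) (by norm_num) (by omega)
  have e3 := abs_div_le (c := 125) (X := 1 - 2 * a) (N := 199) (by norm_num) (by omega)
  have e4 := abs_div_le (c := 108) (X := f) (N := 150) (by norm_num) (by omega)
  push_cast at e1 e2 e3 e4 heq'
  rw [abs_le] at e1 e2 e3 e4
  linarith [e1.2, e2.2, e3.2, e4.2]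

/-- The exceptional arrangement is impossible. -/
theorem no_exceptional {a c e f : ℤ} (ha : Adm 2 a) (hc : Adm 3 c) (he : Adm 5 e) (hf : Adm 6 f)
    (h1 : 1 + 2 * c + e + 2 * f = 0) (h2 : a + c + e + f = 0) (g : ℕ)
    (h14 : (g : ℚ) * (1 + 18 / c + 25 / e + 72 / f) = 14 * 14400)
    (h44 : (g : ℚ) * (4 / a + 9 / c + 25 / e + 36 / f) = 4 * 14400) : False := by
  obtain rfl : e = 1 - 2 * a := by linarith
  have hg0 : (g : ℚ) ≠ 0 := by
    intro h
    rw [h, zero_mul] at h44
    norm_num at h44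
  have hlin : (2 : ℚ) - 28 / a - 27 / c - 125 / ((1 - 2 * a : ℤ) : ℚ) - 108 / f = 0 := by
    refine (mul_eq_zero.1 ?_).resolve_left hg0
    linear_combination (2 : ℚ) * h14 - 7 * h44
  refine not_condTwo (a := a) (c := c) (f := f) ⟨ha, hc, he, hf, by linarith, ?_⟩
  have := (Int.cast_ne_zero (α := ℚ)).2 (show a ≠ 0 by rintro rfl; simp [Adm] at ha)
  have := (Int.cast_ne_zero (α := ℚ)).2 (show c ≠ 0 by rintro rfl; simp [Adm] at hc)
  have := (Int.cast_ne_zero (α := ℚ)).2 (show f ≠ 0 by rintro rfl; simp [Adm] at hf)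
  have := (Int.cast_ne_zero (α := ℚ)).2 (show 1 - 2 * a ≠ 0 by omega)
  have h3 : (28 : ℚ) * (c * ((1 - 2 * a : ℤ) : ℚ) * f) + 27 * (a * ((1 - 2 * a : ℤ) : ℚ) * f) +
      125 * (a * c * f) + 108 * (a * c * ((1 - 2 * a : ℤ) : ℚ)) =
      2 * (a * c * ((1 - 2 * a : ℤ) : ℚ) * f) := by
    generalize ((1 - 2 * a : ℤ) : ℚ) = w at *
    field_simp at hlin
    linear_combination -hlin
  exact_mod_cast h3

end Cfsg.Agent.Char.JankoOne
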