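import Cfsg.Agent.Lib.Char.JankoOne.Model
import Cfsg.Agent.Lib.Block.Principal
import Cfsg.Agent.Lib.Block.KleinFour
import Cfsg.Agent.Lib.Char.TwoTransConstituent

/-!
The principal 2-block of `2 × A₅`.
-/

open scoped ComplexConjugate

set_option autoImplicit false
set_option linter.unusedSectionVars false
set_option linter.style.haveILetI false

namespace Cfsg.Agent.Char.JankoOne

open Cfsg Cfsg.Agent.Block

universe u

/-- The sign of the central factor as a homomorphism. -/
noncomputable def signHom : Multiplicative (ZMod 2) →* ℂˣ where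
  toFun z := if z = 1 then 1 else -1
  map_one' := if_pos rfl
  map_mul' z w := by
    have h : ∀ z w : Multiplicative (ZMod 2), (z = 1 ∧ w = 1 ∧ z * w = 1) ∨
        (z = 1 ∧ w ≠ 1 ∧ z * w ≠ 1) ∨ (z ≠ 1 ∧ w = 1 ∧ z * w ≠ 1) ∨
        (z ≠ 1 ∧ w ≠ 1 ∧ z * w = 1) := by decide
    rcases h z w with ⟨a, b, c⟩ | ⟨a, b, c⟩ | ⟨a, b, c⟩ | ⟨a, b, c⟩ <;> simp [a, b, c]

theorem piFun_fix (a : A5) : Block.PermChar.piFun A5 (Fin 5) a = (fix a : ℂ) := by
  simp only [Block.PermChar.piFun, fix, Nat.card_eq_fintype_card]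
  norm_cast
  rw [Fintype.card_subtype]
  congr 1

theorem psi_isChar : IsCharacter A5 (fun a => (psi a : ℂ)) := by
  classical
  have hpre : MulAction.IsPretransitive A5 (Fin 5) := ⟨(show ∀ x y : Fin 5,
    ∃ a : A5, (a : Equiv.Perm (Fin 5)) x = y by decide +kernel)⟩
  have hfun : (fun a : A5 => (psi a : ℂ)) =
      Block.PermChar.piFun A5 (Fin 5) - fun _ => (1 : ℂ) := funext fun a => by
    simp [psi, piFun_fix]
  rw [hfun]
  refine isCharacter_of_classInner_nat (fun g x => ?_) fun χ hχ => ?_
  · simp only [Pi.sub_apply]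
    rw [IsChar.classFun (Block.PermChar.isCharacter_piFun (G := A5) (Ω := Fin 5)) g x]
  · rw [classInner_sub_left]
    by_cases h : χ = fun _ => (1 : ℂ)
    · subst h
      refine ⟨0, ?_⟩
      rw [classInner_self_irr isIrr_one]
      have := mult_one (G := A5) (Ω := Fin 5) hpre inferInstance
      rw [Block.PermChar.mult] at this
      rw [this, sub_self, Nat.cast_zero]
    · rw [classInner_irr_ne isIrr_one hχ (Ne.symm h), sub_zero]
      exact IsChar.classInner_nat Block.PermChar.isCharacter_piFun (IsIrr.isCharacter hχ)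

variable {X : Type u} [Group X] [Finite X] (e : X ≃* Model)

/-- The sign character. -/
noncomputable def sgnLin : X →* ℂˣ :=
  signHom.comp ((MonoidHom.fst (Multiplicative (ZMod 2)) A5).comp e.toMonoidHom)

theorem sgnLin_apply (x : X) : ((sgnLin e x : ℂˣ) : ℂ) = (sgn (e x) : ℂ) := by
  simp only [sgnLin, sgn, MonoidHom.comp_apply, MonoidHom.coe_fst, MulEquiv.coe_toMonoidHom,
    signHom, MonoidHom.coe_mk, OneHom.coe_mk]
  split_ifs <;> simp

/-- The two characters of degree four. -/
noncomputable def psiFun (w : Bool) : X → ℂ := fun x =>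
  (psi (e x).2 : ℂ) * if w then (sgn (e x) : ℂ) else 1

theorem psiFun_isChar (w : Bool) : IsCharacter X (psiFun e w) := by
  have h := IsChar.comp ((MonoidHom.snd (Multiplicative (ZMod 2)) A5).comp e.toMonoidHom) psi_isChar
  cases w
  · have : psiFun e false = fun x => (psi (e x).2 : ℂ) := funext fun x => by simp [psiFun]
    rw [this]
    exact h
  · have : psiFun e true = (fun x => (psi (e x).2 : ℂ)) * fun x => ((sgnLin e x : ℂˣ) : ℂ) :=
      funext fun x => by simp [psiFun, sgnLin_apply]
    rw [this]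
    exact IsChar.mul h (IsIrr.isCharacter (isIrr_linear (sgnLin e)))

theorem sum_model [Fintype X] {α : Type*} [AddCommMonoid α] (F : X → α) :
    ∑ x : X, F x = ∑ a : Model, F (e.symm a) :=
  (Equiv.sum_comp e.symm.toEquiv F).symm

theorem card_X (e : X ≃* Model) : Nat.card X = 120 := by
  rw [Nat.card_congr e.toEquiv, Nat.card_eq_fintype_card, card_model]

theorem psiFun_irr (w : Bool) : IsIrrCharacter X (psiFun e w) := by
  classical
  cases nonempty_fintype X
  refine IsChar.irr_of_norm_one (psiFun_isChar e w) ?_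
  rw [classInner, card_X e, sum_model e]
  have h : ∀ a : Model, psiFun e w (e.symm a) * conj (psiFun e w (e.symm a)) =
      ((psi a.2 * psi a.2 : ℤ) : ℂ) := by
    intro a
    have hs : sgn a * sgn a = 1 := by
      unfold sgn
      split_ifs <;> norm_num
    have hs' : (sgn a : ℂ) * (sgn a : ℂ) = 1 := by exact_mod_cast hs
    cases w <;> simp only [psiFun, MulEquiv.apply_symm_apply, if_true, Bool.false_eq_true, if_false,
      mul_one, map_mul, map_intCast, Int.cast_mul]
    linear_combination (psi a.2 : ℂ) * (psi a.2 : ℂ) * hs'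
  rw [Finset.sum_congr rfl fun a _ => h a, ← Int.cast_sum,
    show ∑ a : Model, psi a.2 * psi a.2 = 120 by decide +kernel]
  norm_num

theorem cent_card (x : X) : Nat.card (Subgroup.centralizer ({x} : Set X)) =
    (Finset.univ.filter fun a : Model => a * e x = e x * a).card := by
  classical
  rw [← Fintype.card_subtype, ← Nat.card_eq_fintype_card]
  refine Nat.card_congr (e.toEquiv.subtypeEquiv fun g => ?_)
  rw [Subgroup.mem_centralizer_singleton_iff]
  simp only [MulEquiv.toEquiv_eq_coe, EquivLike.coe_coe]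
  rw [← map_mul, ← map_mul, e.injective.eq_iff]

theorem isConj_iff_model (x y : X) : IsConj x y ↔ ∃ a : Model, a * e x * a⁻¹ = e y := by
  rw [isConj_iff]
  constructor
  · rintro ⟨c, rfl⟩
    exact ⟨e c, by simp⟩
  · rintro ⟨a, ha⟩
    exact ⟨e.symm a, e.injective (by simpa using ha)⟩

theorem psiFun_not_mem {M : Ideal AlgInt} (hM : IsPModular 2 M) (w : Bool) :
    (⟨psiFun e w, psiFun_irr e w⟩ : IrrCharacter X) ∉ principalBlock M X := by
  haveI : Fact (Nat.Prime 2) := ⟨Nat.prime_two⟩
  intro h
  have h' : SameBlock M (fun _ : X => (1 : ℂ)) (psiFun e w) := h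
  have hy := h' (e.symm (1, y3))
  have hidx : (Subgroup.centralizer ({e.symm (1, y3)} : Set X)).index = 20 := by
    have h1 := Subgroup.card_mul_index (Subgroup.centralizer ({e.symm (1, y3)} : Set X))
    rw [cent_card e, MulEquiv.apply_symm_apply, cent_y3, card_X e] at h1
    omega
  have hval : centralChar (fun _ : X => (1 : ℂ)) (e.symm (1, y3)) -
      centralChar (psiFun e w) (e.symm (1, y3)) = ((15 : ℕ) : ℂ) := by
    have hp1 : psi y3 = 1 := by decide +kernel
    have hp2 : psi 1 = 4 := by decide +kernel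
    simp only [centralChar, hidx, psiFun, MulEquiv.apply_symm_apply, map_one, Prod.snd_one, sgn,
      Prod.fst_one, if_true, hp1, hp2]
    cases w <;> norm_num
  rw [hval, ideal_natCast_iff hM] at hy
  norm_num at hy

theorem involution_column {M : Ideal AlgInt} (hM : IsPModular 2 M) {ξ : IrrCharacter X}
    (hξ : ξ ∉ principalBlock M X) (z : Multiplicative (ZMod 2)) :
    (ξ : X → ℂ) (e.symm (z, uu)) = 0 := by
  classical
  haveI : Fact (Nat.Prime 2) := ⟨Nat.prime_two⟩
  cases nonempty_fintype X
  set u := e.symm (z, uu) with hu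
  have hcard : Nat.card (Subgroup.centralizer ({u} : Set X)) = 8 := by
    rw [cent_card e, hu, MulEquiv.apply_symm_apply, (cent_uu z).1]
  have hu2 : ∃ k : ℕ, orderOf u = 2 ^ k := by
    obtain ⟨k, -, hk⟩ := (Nat.dvd_prime_pow Nat.prime_two).1
      (show orderOf u ∣ 2 ^ 3 by
        have := orderOf_dvd_natCard (⟨u, Subgroup.mem_centralizer_singleton_iff.2 rfl⟩ :
          Subgroup.centralizer ({u} : Set X))
        rwa [Subgroup.orderOf_mk, hcard] at this)
    exact ⟨k, hk⟩
  have h1 := principal_column hM hu2 (y := (1 : Subgroup.centralizer ({u} : Set X))) (by simp)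
  rw [principal_column_complement hM (K := (⊥ : Subgroup (Subgroup.centralizer ({u} : Set X))))
    (by simp) (k := 3) (by rw [Subgroup.index_bot, hcard]; norm_num) (by simp), hcard,
    show (8 : ℕ) = 2 ^ 3 by norm_num, Nat.Prime.factorization_pow Nat.prime_two,
    Finsupp.single_eq_same, finsum_mem_block] at h1
  simp only [OneMemClass.coe_one, mul_one] at h1
  have h2 := sum_irr_mul_conj u u
  rw [if_pos (IsConj.refl _), hcard,
    ← Finset.sum_filter_add_sum_filter_not Finset.univ (fun χ => χ ∈ principalBlock M X), h1,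
    show ((2 ^ 3 : ℕ) : ℂ) = ((8 : ℕ) : ℂ) by norm_num] at h2
  have h3 : ∑ χ ∈ Finset.univ.filter (fun χ : IrrCharacter X => ¬ χ ∈ principalBlock M X),
      Complex.normSq ((χ : X → ℂ) u) = 0 := by
    have := add_eq_left.1 h2
    simp only [Complex.mul_conj] at this
    exact_mod_cast this
  exact Complex.normSq_eq_zero.1 ((Finset.sum_eq_zero_iff_of_nonneg fun χ _ =>
    Complex.normSq_nonneg _).1 h3 ξ (by simp [hξ]))

theorem univ_two : (Finset.univ : Finset (Multiplicative (ZMod 2))) =
    {1, Multiplicative.ofAdd 1} ∧ (1 : Multiplicative (ZMod 2)) ≠ Multiplicative.ofAdd 1 := by decide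

theorem sum_by_fix (F : A5 → ℂ) {Fu Fy : ℂ} (h1 : ∀ a, fix a = 1 → F a = Fu)
    (h2 : ∀ a, fix a = 2 → F a = Fy) :
    ∑ a : A5, F a = F 1 + 15 * Fu + 20 * Fy + ∑ a ∈ Finset.univ.filter (fun a => fix a = 0), F a := by
  classical
  have hall : (Finset.univ : Finset A5) = ((Finset.univ.filter (fun a => fix a = 5) ∪
      Finset.univ.filter (fun a => fix a = 1)) ∪ Finset.univ.filter (fun a => fix a = 2)) ∪
      Finset.univ.filter (fun a => fix a = 0) := by decide +kernel
  conv_lhs => rw [hall]
  rw [Finset.sum_union (by decide +kernel), Finset.sum_union (by decide +kernel),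
    Finset.sum_union (by decide +kernel),
    show Finset.univ.filter (fun a : A5 => fix a = 5) = {1} by decide +kernel, Finset.sum_singleton,
    Finset.sum_congr rfl (g := fun _ => Fu) (fun a ha => h1 a (Finset.mem_filter.1 ha).2),
    Finset.sum_congr rfl (g := fun _ => Fy) (fun a ha => h2 a (Finset.mem_filter.1 ha).2),
    Finset.sum_const, Finset.sum_const, five_count.2.1, class_y3]
  simp [nsmul_eq_mul]

theorem out_eq {M : Ideal AlgInt} (hM : IsPModular 2 M) {ξ : IrrCharacter X}
    (hξ : ξ ∉ principalBlock M X) : ∃ w : Bool, (ξ : X → ℂ) = psiFun e w := by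
  classical
  haveI : Fact (Nat.Prime 2) := ⟨Nat.prime_two⟩
  cases nonempty_fintype X
  set i : A5 →* X := e.symm.toMonoidHom.comp (MonoidHom.inr (Multiplicative (ZMod 2)) A5) with hi
  have hiapp : ∀ a, i a = e.symm (1, a) := fun a => rfl
  have hχ := IsIrr.isCharacter ξ.2
  have hres : IsCharacter A5 (fun a => (ξ : X → ℂ) (i a)) := IsChar.comp i hχ
  have hcls := IsChar.classFun hres
  have hconj : ∀ a x : A5, (ξ : X → ℂ) (i (x * a * x⁻¹)) = (ξ : X → ℂ) (i a) := fun a x => hcls a x
  have hu0 : ∀ a : A5, fix a = 1 → (ξ : X → ℂ) (i a) = 0 := by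
    intro a ha
    rcases fix_cases a with ⟨h, -⟩ | ⟨-, x, rfl⟩ | ⟨h, -⟩ | h
    · omega
    · rw [hconj, hiapp, involution_column e hM hξ 1]
    all_goals omega
  set α := (ξ : X → ℂ) (i y3) with hα
  have hy : ∀ a : A5, fix a = 2 → (ξ : X → ℂ) (i a) = α := by
    intro a ha
    rcases fix_cases a with ⟨h, -⟩ | ⟨h, -⟩ | ⟨-, x, rfl⟩ | h
    · omega
    · omega
    · exact hconj _ _
    · omega
  obtain ⟨d, hd⟩ := IsChar.one_eq_nat hχ
  have hd0 : d ≠ 0 := fun h => IsIrr.one_ne_zero ξ.2 (by rw [hd, h, Nat.cast_zero])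
  have hi1 : (ξ : X → ℂ) (i 1) = d := by rw [map_one, hd]
  -- the sign twist
  have hsplit : ∀ F : X → ℂ, ∑ x : X, F x =
      ∑ a : A5, F (i a) + ∑ a : A5, F (e.symm tt * i a) := by
    intro F
    rw [sum_model e, Fintype.sum_prod_type,
      univ_two.1, Finset.sum_pair univ_two.2]
    refine congrArg₂ _ rfl (Finset.sum_congr rfl fun a _ => ?_)
    rw [hiapp, ← map_mul]
    simp [tt]
  have hsg1 : ∀ a : A5, ((sgnLin e (i a) : ℂˣ) : ℂ) = 1 := fun a => by
    rw [sgnLin_apply, hiapp, MulEquiv.apply_symm_apply]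
    simp [sgn]
  have hsgt : ∀ a : A5, ((sgnLin e (e.symm tt * i a) : ℂˣ) : ℂ) = -1 := fun a => by
    rw [sgnLin_apply, hiapp, ← map_mul, MulEquiv.apply_symm_apply]
    simp [sgn, tt]
  have hnorm : ∑ a : A5, (ξ : X → ℂ) (i a) * conj ((ξ : X → ℂ) (i a)) = 60 := by
    have hall : ∑ x : X, (ξ : X → ℂ) x * conj ((ξ : X → ℂ) x) = 120 := by
      have h := classInner_self_irr ξ.2
      rw [classInner, card_X e] at h
      push_cast at h
      linear_combination (120 : ℂ) * h
    set η : X → ℂ := (ξ : X → ℂ) * fun x => ((sgnLin e x : ℂˣ) : ℂ) with hη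
    have hηi : IsIrrCharacter X η := by
      refine IsChar.irr_of_norm_one (IsChar.mul hχ (IsIrr.isCharacter (isIrr_linear (sgnLin e)))) ?_
      rw [classInner, card_X e, Finset.sum_congr rfl (g := fun x => (ξ : X → ℂ) x * conj ((ξ : X → ℂ) x))
        (fun x _ => ?_), hall]
      · norm_num
      · simp only [hη, Pi.mul_apply, sgnLin_apply, map_mul, map_intCast]
        have hs' : (sgn (e x) : ℂ) * (sgn (e x) : ℂ) = 1 := by
          have : sgn (e x) * sgn (e x) = 1 := by unfold sgn; split_ifs <;> norm_num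
          exact_mod_cast this
        linear_combination (ξ : X → ℂ) x * conj ((ξ : X → ℂ) x) * hs'
    have hne : (ξ : X → ℂ) ≠ η := by
      intro h
      have ht := congrFun h (e.symm tt * i 1)
      simp only [hη, Pi.mul_apply] at ht
      rw [hsgt, map_one, mul_one] at ht
      have ht0 : (ξ : X → ℂ) (e.symm tt) = 0 := by linear_combination ht / 2
      have hc := sum_irr_mul_conj (e.symm tt) (e.symm tt)
      rw [if_pos (IsConj.refl _), cent_card e, MulEquiv.apply_symm_apply,
        Finset.filter_true_of_mem (fun a _ => tt_central a), Finset.card_univ, card_model] at hc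
      have hc1 := sum_irr_mul_conj (1 : X) 1
      rw [if_pos (IsConj.refl _), show Subgroup.centralizer ({(1 : X)} : Set X) = ⊤ from
        eq_top_iff.2 fun g _ => Subgroup.mem_centralizer_singleton_iff.2 (by rw [mul_one, one_mul]),
        Subgroup.card_top, card_X e, ← hc] at hc1
      simp only [Complex.mul_conj, ← Complex.ofReal_sum, Complex.ofReal_inj] at hc1
      have := (Finset.sum_eq_sum_iff_of_le fun φ _ => ?_).1 hc1.symm ξ (Finset.mem_univ _)
      · rw [ht0, hd, map_zero, Complex.normSq_natCast] at this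
        exact hd0 (by exact_mod_cast (mul_self_eq_zero.1 this.symm))
      · have hle := IsChar.norm_le (IsIrr.isCharacter φ.2) (e.symm tt)
        rw [Complex.normSq_eq_norm_sq, Complex.normSq_eq_norm_sq]
        exact pow_le_pow_left₀ (norm_nonneg _) hle 2
    have h0 := classInner_irr_ne ξ.2 hηi hne
    rw [classInner, mul_eq_zero] at h0
    have h0' := h0.resolve_left (by simp [card_X e])
    rw [hsplit] at h0' hall
    simp only [hη, Pi.mul_apply, hsg1, hsgt] at h0'
    simp only [mul_one, map_mul, map_neg, map_one, mul_neg, Finset.sum_neg_distrib] at h0'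
    linear_combination (1 / 2 : ℂ) * hall + (1 / 2 : ℂ) * h0'
  have hsum0 : ∑ a : A5, (ξ : X → ℂ) (i a) = 0 := by
    have hv1 := involution_column e hM hξ 1
    have h1 : classInner (ξ : X → ℂ) (fun _ => 1) = 0 := classInner_irr_ne ξ.2 isIrr_one fun h => by
      rw [h] at hv1
      exact one_ne_zero hv1
    have h2 : classInner (ξ : X → ℂ) (fun x => ((sgnLin e x : ℂˣ) : ℂ)) = 0 :=
      classInner_irr_ne ξ.2 (isIrr_linear (sgnLin e)) fun h => by
        rw [h] at hv1
        exact (sgnLin e (e.symm (1, uu))).ne_zero hv1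
    rw [classInner, mul_eq_zero] at h1 h2
    have h1' := h1.resolve_left (by simp [card_X e])
    have h2' := h2.resolve_left (by simp [card_X e])
    rw [hsplit] at h1' h2'
    simp only [map_one, mul_one] at h1'
    simp only [hsg1, hsgt, map_neg, map_one, mul_one, mul_neg, Finset.sum_neg_distrib] at h2'
    linear_combination (1 / 2 : ℂ) * h1' + (1 / 2 : ℂ) * h2'
  -- the degree
  have hV : ∃ m : ℕ, (d : ℂ) = 4 * m := by
    obtain ⟨m, hm⟩ := IsChar.classInner_nat (IsChar.res hres V4) (IsChar.one (G := V4))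
    refine ⟨m, ?_⟩
    have hc : Nat.card V4 = 4 := by
      rw [Nat.card_eq_fintype_card, ← V4_count, ← Fintype.card_subtype]
      exact Fintype.card_congr (Equiv.subtypeEquivRight fun a => V4_mem)
    rw [classInner, hc, Finset.sum_eq_single (1 : V4)] at hm
    · simp only [OneMemClass.coe_one, hd, map_one, mul_one] at hm
      push_cast at hm
      linear_combination (4 : ℂ) * hm
    · intro a _ ha
      have hf : fix (a : A5) = 1 := (show ∀ b : A5, (b : Equiv.Perm (Fin 5)) 4 = 4 → b * b = 1 →
        b ≠ 1 → fix b = 1 by decide +kernel) a a.2.1 a.2.2 fun h => ha (Subtype.ext h)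
      rw [hu0 a hf, zero_mul]
    · exact fun h => absurd (Finset.mem_univ _) h
  obtain ⟨m, hm⟩ := hV
  have hdm : d = 4 * m := by exact_mod_cast hm
  -- three elements
  have hS : ∃ k : ℕ, (d : ℂ) + 2 * α = 6 * k := by
    obtain ⟨k, hk⟩ := IsChar.classInner_nat (IsChar.res hres S3) (IsChar.one (G := S3))
    refine ⟨k, ?_⟩
    set P : A5 → Prop := fun a => 3 ≤ ((a : Equiv.Perm (Fin 5)) 3 : ℕ) ∧
      3 ≤ ((a : Equiv.Perm (Fin 5)) 4 : ℕ) with hP
    have hmem : ∀ a : A5, a ∈ Finset.univ.filter P ↔ a ∈ S3 := fun a => by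
      simp only [Finset.mem_filter, Finset.mem_univ, true_and]
      exact S3_mem.symm
    have hc : Nat.card S3 = 6 := by
      rw [Nat.card_eq_fintype_card, ← S3_count.1]
      exact Fintype.card_of_subtype _ hmem
    have hsplit3 : Finset.univ.filter P = ({1} ∪ Finset.univ.filter (fun a => P a ∧ fix a = 1)) ∪
        Finset.univ.filter (fun a => P a ∧ fix a = 2) := by
      simp only [hP]
      decide +kernel
    rw [classInner, hc, ← Finset.sum_subtype (Finset.univ.filter P) hmem
        (fun a => (ξ : X → ℂ) (i a) * conj ((fun _ => (1 : ℂ)) a)), hsplit3,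
      Finset.sum_union (by simp only [hP]; decide +kernel),
      Finset.sum_union (by simp only [hP]; decide +kernel), Finset.sum_singleton,
      (show ∑ a ∈ Finset.univ.filter (fun a : A5 => P a ∧ fix a = 1),
          (ξ : X → ℂ) (i a) * conj ((fun _ => (1 : ℂ)) a) = 0 from Finset.sum_eq_zero fun a ha => by
            rw [hu0 a (Finset.mem_filter.1 ha).2.2, zero_mul]),
      (show ∑ a ∈ Finset.univ.filter (fun a : A5 => P a ∧ fix a = 2),
          (ξ : X → ℂ) (i a) * conj ((fun _ => (1 : ℂ)) a) =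
          ∑ _a ∈ Finset.univ.filter (fun a : A5 => P a ∧ fix a = 2), α from
          Finset.sum_congr rfl fun a ha => by
            rw [hy a (Finset.mem_filter.1 ha).2.2, map_one, mul_one]),
      Finset.sum_const] at hk
    simp only [hP, S3_count.2.2, nsmul_eq_mul, add_zero, map_one, mul_one, hd] at hk
    push_cast at hk
    linear_combination (6 : ℂ) * hk
  obtain ⟨k, hk⟩ := hS
  have hαint : α = ((3 * k - 2 * m : ℤ) : ℂ) := by
    push_cast
    rw [hdm] at hk
    push_cast at hk
    linear_combination hk / 2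
  set S5 := Finset.univ.filter (fun a : A5 => fix a = 0) with hS5
  have e1 := sum_by_fix (fun a => (ξ : X → ℂ) (i a)) hu0 hy
  rw [hsum0, hi1] at e1
  have e2 := sum_by_fix (fun a => (ξ : X → ℂ) (i a) * conj ((ξ : X → ℂ) (i a))) (Fu := 0)
    (Fy := ((3 * k - 2 * m : ℤ) : ℂ) ^ 2)
    (fun a ha => by rw [hu0 a ha, zero_mul])
    (fun a ha => by rw [hy a ha, hαint, map_intCast, sq])
  rw [hnorm, hi1, map_natCast] at e2
  have hnn : ∀ a : A5, (ξ : X → ℂ) (i a) * conj ((ξ : X → ℂ) (i a)) =
      (Complex.normSq ((ξ : X → ℂ) (i a)) : ℂ) := fun a => Complex.mul_conj _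
  have hS5nn : 0 ≤ ∑ a ∈ S5, Complex.normSq ((ξ : X → ℂ) (i a)) :=
    Finset.sum_nonneg fun a _ => Complex.normSq_nonneg _
  have hR : (60 : ℝ) = (d : ℝ) * d + 20 * ((3 * k - 2 * m : ℤ) : ℝ) ^ 2 +
      ∑ a ∈ S5, Complex.normSq ((ξ : X → ℂ) (i a)) := by
    rw [Finset.sum_congr rfl fun a _ => hnn a] at e2
    simp only [mul_zero, add_zero] at e2
    rw [← Complex.ofReal_sum] at e2
    have := congrArg Complex.re e2
    simpa [pow_two] using this
  have hle : (d : ℤ) * d + 20 * (3 * k - 2 * m : ℤ) ^ 2 ≤ 60 := by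
    have : (d : ℝ) * d + 20 * ((3 * k - 2 * m : ℤ) : ℝ) ^ 2 ≤ 60 := by linarith
    exact_mod_cast this
  have hm1 : m = 1 := by
    have : m ≤ 1 := by
      by_contra hc
      have : (8 : ℤ) ≤ d := by omega
      nlinarith [sq_nonneg (3 * (k : ℤ) - 2 * m)]
    omega
  have hd4 : d = 4 := by omega
  have hk1 : 3 * (k : ℤ) - 2 * m = 1 := by
    rw [hd4] at hle
    have h1 : (3 * (k : ℤ) - 2 * m) ^ 2 ≤ 2 := by push_cast at hle; linarith
    have h2 : -2 < 3 * (k : ℤ) - 2 * m := by nlinarith
    have h3 : 3 * (k : ℤ) - 2 * m < 2 := by nlinarith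
    omega
  rw [hk1, Int.cast_one] at hαint e2
  rw [hd4, hαint] at e1
  push_cast at e1
  have h5 : ∀ a ∈ S5, (ξ : X → ℂ) (i a) = -1 := by
    rw [hk1, hd4] at hR
    have h0 : ∑ a ∈ S5, Complex.normSq ((ξ : X → ℂ) (i a) + 1) = 0 := by
      have hre := congrArg Complex.re e1
      simp only [Complex.add_re, Complex.re_sum, Complex.zero_re, Complex.re_ofNat] at hre
      simp only [Complex.normSq_add, Finset.sum_add_distrib, map_one, mul_one]
      rw [← Finset.mul_sum, Finset.sum_const, hS5, five_count.1, ← hS5, nsmul_eq_mul]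
      push_cast at hR ⊢
      simp at hre
      linarith
    intro a ha
    have := Complex.normSq_eq_zero.1
      ((Finset.sum_eq_zero_iff_of_nonneg fun b _ => Complex.normSq_nonneg _).1 h0 a ha)
    linear_combination this
  have hvals : ∀ a : A5, (ξ : X → ℂ) (i a) = (psi a : ℂ) := by
    intro a
    rcases fix_cases a with ⟨h, rfl⟩ | ⟨h, -⟩ | ⟨h, -⟩ | h
    · rw [hi1, hd4, psi, h]; norm_num
    · rw [hu0 a h, psi, h]; norm_num
    · rw [hy a h, hαint, psi, h]; norm_num
    · rw [h5 a (Finset.mem_filter.2 ⟨Finset.mem_univ _, h⟩), psi, h]; norm_num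
  by_contra hno
  push Not at hno
  have hz : ∀ w, classInner (ξ : X → ℂ) (psiFun e w) = 0 := fun w =>
    classInner_irr_ne ξ.2 (psiFun_irr e w) (hno w)
  have h := congrArg₂ (· + ·) (hz false) (hz true)
  rw [classInner, classInner, ← mul_add, ← Finset.sum_add_distrib, hsplit] at h
  simp only [psiFun, hiapp, ← map_mul, MulEquiv.apply_symm_apply, Bool.false_eq_true, if_false,
    if_true, add_zero] at h
  refine absurd h (mul_ne_zero (by simp [card_X e]) ?_)
  rw [← Finset.sum_add_distrib,
    Finset.sum_congr rfl (g := fun a : A5 => 2 * ((psi a * psi a : ℤ) : ℂ)) (fun a _ => ?_),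
    ← Finset.mul_sum, ← Int.cast_sum, show ∑ a : A5, psi a * psi a = 60 by decide +kernel]
  · norm_num
  · have h1 : (ξ : X → ℂ) (e.symm (1, a)) = (psi a : ℂ) := by rw [← hiapp]; exact hvals a
    simp [sgn, tt, h1]
    ring

/-- The column sums of the principal block. -/
theorem block_kernel {M : Ideal AlgInt} (hM : IsPModular 2 M) {y y' : X} (hy : (e y) ^ 15 = 1)
    (hy' : (e y') ^ 15 = 1) :
    ∑ᶠ ξ ∈ principalBlock M X, (ξ : X → ℂ) y * conj ((ξ : X → ℂ) y') =
      (open Classical in if IsConj y y' then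
        (Nat.card (Subgroup.centralizer ({y'} : Set X)) : ℂ) else 0) -
        2 * ((psi (e y).2 * psi (e y').2 : ℤ) : ℂ) := by
  classical
  cases nonempty_fintype X
  set P1 : IrrCharacter X := ⟨psiFun e false, psiFun_irr e false⟩ with hP1
  set P2 : IrrCharacter X := ⟨psiFun e true, psiFun_irr e true⟩ with hP2
  have hne : P1 ≠ P2 := fun h => by
    have := congrFun (congrArg Subtype.val h) (e.symm tt)
    simp [hP1, hP2, psiFun, sgn, tt, show psi 1 = 4 by decide +kernel] at this
    norm_num at this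
  have hout : Finset.univ.filter (fun ξ : IrrCharacter X => ¬ ξ ∈ principalBlock M X) = {P1, P2} := by
    ext ξ
    simp only [Finset.mem_filter, Finset.mem_univ, true_and, Finset.mem_insert, Finset.mem_singleton]
    constructor
    · intro h
      obtain ⟨w, hw⟩ := out_eq e hM h
      cases w
      · exact Or.inl (Subtype.ext hw)
      · exact Or.inr (Subtype.ext hw)
    · rintro (rfl | rfl)
      · exact psiFun_not_mem e hM false
      · exact psiFun_not_mem e hM true
  rw [← sum_irr_mul_conj y y', finsum_mem_block,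
    ← Finset.sum_filter_add_sum_filter_not Finset.univ (fun ξ => ξ ∈ principalBlock M X)
      (fun χ : IrrCharacter X => (χ : X → ℂ) y * conj ((χ : X → ℂ) y')), hout, Finset.sum_pair hne]
  have h1 : (e y).1 = 1 := (odd_classes _ hy).1
  have h2 : (e y').1 = 1 := (odd_classes _ hy').1
  simp only [hP1, hP2, psiFun, sgn, h1, h2, if_true, Int.cast_one, mul_one, map_intCast,
    Bool.false_eq_true, if_false]
  push_cast
  ring

end Cfsg.Agent.Char.JankoOne
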