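import Cfsg.Agent.Lib.Char.JankoOne.Model
import Cfsg.Agent.Lib.Block.ElemEight.Local
import Cfsg.Agent.Lib.Block.SecondMain
import Cfsg.Prelude.Def_SporadicB

/-!
The local structure around an involution with centralizer `2 × A₅`.
-/

set_option autoImplicit false
set_option linter.unusedSectionVars false
set_option linter.style.haveILetI false

namespace Cfsg.Agent.Char.JankoOne

open Cfsg Cfsg.Agent.Block

universe u

/-- The data of the problem. -/
structure Setting (G : Type u) [Group G] where
  /-- the involution -/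
  t : G
  /-- the identification of the centralizer -/
  e : Subgroup.centralizer ({t} : Set G) ≃* Model
  ht : orderOf t = 2
  hconj : ∀ x : G, orderOf x = 2 → IsConj t x

variable {G : Type u} [Group G] [Finite G]

theorem nonempty_setting [IsSimpleGroup G] (t : G) (ht : Cfsg.IsTwoCentralInvolution t)
    (e : Subgroup.centralizer ({t} : Set G) ≃* Model) :
    ∃ S : Setting G, S.t = t := by
  classical
  obtain ⟨hto, P, htP, hPt⟩ := ht
  haveI : Fact (Nat.Prime 2) := ⟨Nat.prime_two⟩
  set C := Subgroup.centralizer ({t} : Set G) with hC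
  have hPC : (P : Subgroup G) ≤ C := fun x hx => Subgroup.mem_centralizer_singleton_iff.2 (hPt x hx)
  have hCcard : Nat.card C = 120 := by
    rw [Nat.card_congr e.toEquiv, Nat.card_eq_fintype_card, card_model]
  have hP8 : Nat.card (P : Subgroup G) = 8 := by
    have h1 := Sylow.card_eq_multiplicity (P.subtype hPC)
    rw [hCcard, show (120 : ℕ) = 2 ^ 3 * 15 by norm_num,
      Nat.factorization_mul (by norm_num) (by norm_num), Finsupp.add_apply,
      Nat.Prime.factorization_pow Nat.prime_two, Finsupp.single_eq_same,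
      Nat.factorization_eq_zero_of_not_dvd (by norm_num), add_zero, Sylow.coe_subtype,
      Nat.card_congr (Subgroup.subgroupOfEquivOfLe hPC).toEquiv] at h1
    simpa using h1
  have hsq : ∀ x : G, x ∈ (P : Subgroup G) → x ^ 2 = 1 := by
    intro x hx
    have h8 : x ^ 8 = 1 := orderOf_dvd_iff_pow_eq_one.1 (hP8 ▸ Subgroup.orderOf_dvd_natCard _ hx)
    have h30 : x ^ 30 = 1 := by
      have h := congrArg e.symm (pow_thirty (e ⟨x, hPC hx⟩))
      rw [map_pow, e.symm_apply_apply, map_one] at h
      exact congrArg Subtype.val h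
    have := pow_gcd_eq_one.2 ⟨h8, h30⟩
    simpa using this
  have hEA : Cfsg.IsElementaryAbelian 2 (P : Subgroup G) := by
    refine ⟨⟨⟨fun a b => Subtype.ext ?_⟩⟩, hsq⟩
    have ha := hsq _ a.2
    have hb := hsq _ b.2
    have hab := hsq _ (mul_mem a.2 b.2)
    rw [pow_two] at ha hb hab
    simp only [Subgroup.coe_mul]
    rw [← inv_eq_of_mul_eq_one_right hab, mul_inv_rev, inv_eq_of_mul_eq_one_right ha,
      inv_eq_of_mul_eq_one_right hb]
  have hnab : ¬ IsMulCommutative G := by
    intro h
    obtain ⟨a, b, hab⟩ := exists_noncomm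
    refine hab ?_
    have := congrArg e (show e.symm a * e.symm b = e.symm b * e.symm a from
      Subtype.ext (h.is_comm.comm (a := ((e.symm a : C) : G)) (b := ((e.symm b : C) : G))))
    simpa using this
  haveI := hEA.1
  set N := Subgroup.normalizer ((P : Subgroup G) : Set G) with hN
  set ρ := (P : Subgroup G).normalizerMonoidHom with hρ
  have happ : ∀ (n : N) (s : (P : Subgroup G)), ((ρ n s : (P : Subgroup G)) : G) = n * s * (n : G)⁻¹ :=
    fun n s => rfl
  have hexp : ∀ x : (P : Subgroup G), x * x = 1 := fun x => Subtype.ext (by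
    rw [Subgroup.coe_mul, Subgroup.coe_one, ← pow_two]; exact hsq x x.2)
  have hcard : Nat.card ρ.range =
      (Subgroup.centralizer ((P : Subgroup G) : Set G)).relIndex N := by
    rw [← Subgroup.index_ker, hρ, Subgroup.normalizerMonoidHom_ker]
    rfl
  have hSC : (P : Subgroup G) ≤ Subgroup.centralizer ((P : Subgroup G) : Set G) := fun x hx =>
    Subgroup.mem_centralizer_iff.2 fun y hy =>
      congrArg Subtype.val (hEA.1.is_comm.comm (a := (⟨y, hy⟩ : (P : Subgroup G))) (b := ⟨x, hx⟩))
  have hSN : (P : Subgroup G) ≤ N := Subgroup.le_normalizer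
  have hodd : Odd (Nat.card ρ.range) := by
    rw [hcard]
    have h1 : (Subgroup.centralizer ((P : Subgroup G) : Set G)).relIndex N ∣
        (P : Subgroup G).relIndex N := Subgroup.relIndex_dvd_of_le_left _ hSC
    have h2 : (P : Subgroup G).relIndex N ∣ (P : Subgroup G).index :=
      Subgroup.relIndex_dvd_index_of_le hSN
    rw [← Nat.not_even_iff_odd, even_iff_two_dvd]
    exact fun h => P.not_dvd_index ((h.trans h1).trans h2)
  have hnf : ∀ x : (P : Subgroup G), x ≠ 1 → ∃ α ∈ ρ.range, α x ≠ x := by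
    intro x he
    by_contra hno
    push Not at hno
    refine he (Subtype.ext ?_)
    have hcomm : ∀ n : N, (n : G) * x = x * n := fun n => by
      have h := congrArg Subtype.val (hno _ ⟨n, rfl⟩)
      rw [happ] at h
      exact mul_inv_eq_iff_eq_mul.1 h
    have hab : IsMulCommutative ((P : Subgroup G).subgroupOf N) :=
      ⟨⟨fun a b => by
        have h := congrArg Subtype.val (hEA.1.is_comm.comm
          (a := (⟨((a : N) : G), a.2⟩ : (P : Subgroup G))) (b := ⟨((b : N) : G), b.2⟩))
        exact Subtype.ext (Subtype.ext h)⟩⟩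
    have hhall : Nat.Coprime (Nat.card ((P : Subgroup G).subgroupOf N))
        ((P : Subgroup G).subgroupOf N).index := by
      rw [Nat.card_congr (Subgroup.subgroupOfEquivOfLe hSN).toEquiv, hP8,
        show 8 = 2 ^ 3 by norm_num]
      refine Nat.Coprime.pow_left _ ((Nat.prime_two.coprime_iff_not_dvd).2 fun h => ?_)
      exact P.not_dvd_index (h.trans (Subgroup.relIndex_dvd_index_of_le hSN))
    have h := Transfer.hall_inf_commutator_inf_center _ hab hhall
    have hmem : (⟨(x : G), hSN x.2⟩ : N) ∈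
        (P : Subgroup G).subgroupOf N ⊓ commutator N ⊓ Subgroup.center N := by
      refine ⟨⟨Subgroup.mem_subgroupOf.2 x.2, ?_⟩, Subgroup.mem_center_iff.2 fun n =>
        Subtype.ext (hcomm n)⟩
      have h1 : (x : G) ∈ ⁅(P : Subgroup G), N⁆ :=
        (Transfer.abelian_sylow_inf_commutator P hEA.1).1
          ⟨by rw [ElemEight.commutator_top hnab]; trivial, x.2⟩
      have h2 : (x : G) ∈ (commutator N).map N.subtype := by
        rw [Subgroup.map_subtype_commutator]
        exact Subgroup.commutator_mono hSN le_rfl h1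
      obtain ⟨m, hm, hme⟩ := h2
      exact (show m = ⟨(x : G), hSN x.2⟩ from Subtype.ext hme) ▸ hm
    rw [h, Subgroup.mem_bot] at hmem
    exact congrArg (Subtype.val : N → G) hmem
  obtain ⟨htr, -⟩ := ElemEight.transitive_card hexp hP8 ρ.range hodd hnf
  have hone : ∀ x : G, orderOf x = 2 → IsConj t x := by
    intro x hx
    have hxg : IsPGroup 2 (Subgroup.zpowers x) :=
      IsPGroup.of_card (n := 1) (by rw [Nat.card_zpowers, hx, pow_one])
    obtain ⟨Q, hQ⟩ := hxg.exists_le_sylow
    obtain ⟨g, hg⟩ := MulAction.exists_smul_eq G Q P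
    have hmem : g * x * g⁻¹ ∈ (P : Subgroup G) := by
      rw [← hg, Sylow.coe_subgroup_smul, Subgroup.mem_pointwise_smul_iff_inv_smul_mem]
      simpa [MulAut.conj_apply, mul_assoc] using hQ (Subgroup.mem_zpowers x)
    have ht1 : t ≠ 1 := fun h => by rw [h, orderOf_one] at hto; norm_num at hto
    have hx1 : x ≠ 1 := fun h => by rw [h, orderOf_one] at hx; norm_num at hx
    obtain ⟨α, ⟨n, rfl⟩, hα⟩ := htr ⟨t, htP⟩ ⟨g * x * g⁻¹, hmem⟩
      (fun h => ht1 (congrArg Subtype.val h))
      (fun h => hx1 (by simpa using (congrArg Subtype.val h : g * x * g⁻¹ = 1)))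
    have h1 : IsConj t (g * x * g⁻¹) :=
      isConj_iff.2 ⟨n, (happ n _).symm.trans (congrArg Subtype.val hα)⟩
    exact h1.trans (isConj_iff.2 ⟨g⁻¹, by group⟩)
  exact ⟨⟨t, e, hto, hone⟩, rfl⟩

namespace Setting

variable (S : Setting G)

/-- The centralizer. -/
abbrev C : Subgroup G := Subgroup.centralizer ({S.t} : Set G)

/-- The model inside the group. -/
noncomputable def ι : Model →* G := S.C.subtype.comp S.e.symm.toMonoidHom

theorem ι_apply (a : Model) : S.ι a = ((S.e.symm a : S.C) : G) := rfl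

theorem ι_injective : Function.Injective S.ι := fun a b h =>
  S.e.symm.injective (Subtype.ext h)

theorem t_sq : S.t * S.t = 1 := by
  rw [← pow_two, ← S.ht, pow_orderOf_eq_one]

theorem t_inv : S.t⁻¹ = S.t := inv_eq_of_mul_eq_one_right S.t_sq

theorem t_ne : S.t ≠ 1 := fun h => by
  have := S.ht
  rw [h, orderOf_one] at this
  norm_num at this

theorem ι_tt : S.ι tt = S.t := by
  set tC : S.C := ⟨S.t, Subgroup.mem_centralizer_singleton_iff.2 rfl⟩ with htC
  have h : S.e tC = tt := by
    have hcen : ∀ b : Model, S.e tC * b = b * S.e tC := fun b => by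
      obtain ⟨c, rfl⟩ := S.e.surjective b
      rw [← map_mul, ← map_mul]
      exact congrArg S.e (Subtype.ext (Subgroup.mem_centralizer_singleton_iff.1 c.2).symm)
    refine central_involution_eq _ (hcen _) (hcen _) (hcen _) ?_ ?_
    · rw [← map_mul, show tC * tC = 1 from Subtype.ext S.t_sq, map_one]
    · rw [← map_one S.e]
      exact fun h => S.t_ne (congrArg Subtype.val (S.e.injective h))
  rw [ι_apply, ← h, S.e.symm_apply_apply]

theorem mem_range {x : G} (hx : x ∈ S.C) : ∃ a : Model, S.ι a = x :=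
  ⟨S.e ⟨x, hx⟩, by rw [ι_apply, S.e.symm_apply_apply]⟩

theorem card_C : Nat.card S.C = 120 := by
  rw [Nat.card_congr S.e.toEquiv, Nat.card_eq_fintype_card, card_model]

theorem conj_involution {x : G} (h2 : x * x = 1) (h1 : x ≠ 1) : IsConj S.t x :=
  S.hconj x (orderOf_eq_prime (by rw [pow_two, h2]) h1)

theorem not_conj_one (g : G) (h : IsConj S.t g) : g * g = 1 ∧ g ≠ 1 := by
  obtain ⟨c, rfl⟩ := isConj_iff.1 h
  refine ⟨?_, fun he => S.t_ne ?_⟩
  · calc c * S.t * c⁻¹ * (c * S.t * c⁻¹) = c * (S.t * S.t) * c⁻¹ := by group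
      _ = 1 := by rw [S.t_sq]; group
  · calc S.t = c⁻¹ * (c * S.t * c⁻¹) * c := by group
      _ = 1 := by rw [he]; group

/-- The number of elements moving the involution to a given involution. -/
theorem card_fibre {T : G} (hT : T * T = 1) (hT1 : T ≠ 1) [Fintype G] [DecidableEq G] :
    (Finset.univ.filter fun g : G => g * S.t * g⁻¹ = T).card = 120 := by
  obtain ⟨c, hc⟩ := isConj_iff.1 (S.conj_involution hT hT1)
  rw [← S.card_C, ← Fintype.card_subtype, ← Nat.card_eq_fintype_card]
  refine Nat.card_congr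
    { toFun := fun g => ⟨c⁻¹ * g.1, Subgroup.mem_centralizer_singleton_iff.2 ?_⟩
      invFun := fun x => ⟨c * x.1, ?_⟩
      left_inv := fun g => by simp
      right_inv := fun x => by simp }
  · have hg : g.1 * S.t * g.1⁻¹ = c * S.t * c⁻¹ := g.2.trans hc.symm
    calc c⁻¹ * g.1 * S.t = c⁻¹ * (g.1 * S.t * g.1⁻¹) * g.1 := by group
      _ = c⁻¹ * (c * S.t * c⁻¹) * g.1 := by rw [hg]
      _ = S.t * (c⁻¹ * g.1) := by group
  · have hx : (x : G) * S.t = S.t * x := Subgroup.mem_centralizer_singleton_iff.1 x.2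
    rw [← hc]
    calc c * x.1 * S.t * (c * x.1)⁻¹ = c * ((x : G) * S.t) * (x : G)⁻¹ * c⁻¹ := by group
      _ = c * S.t * c⁻¹ := by rw [hx]; group

/-- The number of elements `g` with `t * t ^ g` conjugate to `w`, weighted by the centralizer. -/
theorem count_products [Fintype G] [DecidableEq G] (w : G)
    [DecidablePred fun g : G => IsConj (S.t * (g * S.t * g⁻¹)) w] :
    (Finset.univ.filter fun g : G => IsConj (S.t * (g * S.t * g⁻¹)) w).card *
        Nat.card (Subgroup.centralizer ({w} : Set G)) =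
      14400 * (Finset.univ.filter fun T : G =>
        T * T = 1 ∧ T ≠ 1 ∧ T * w * (T * w) = 1 ∧ T * w ≠ 1).card := by
  classical
  set P : G → Prop := fun T => T * w * (T * w) = 1 ∧ T * w ≠ 1 with hP
  set Ω := Finset.univ.filter (fun gh : G × G =>
    S.t * (gh.1 * S.t * gh.1⁻¹) = gh.2 * w * gh.2⁻¹) with hΩ
  have h1 : Ω.card = (Finset.univ.filter fun g : G => IsConj (S.t * (g * S.t * g⁻¹)) w).card *
      Nat.card (Subgroup.centralizer ({w} : Set G)) := by
    rw [Finset.card_eq_sum_card_fiberwise (f := Prod.fst)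
      (t := Finset.univ.filter fun g : G => IsConj (S.t * (g * S.t * g⁻¹)) w) (fun gh hgh => by
        simp only [Finset.coe_filter, Finset.mem_univ, true_and, Set.mem_setOf_eq, hΩ] at hgh ⊢
        exact IsConj.symm (isConj_iff.2 ⟨gh.2, hgh.symm⟩))]
    rw [Finset.sum_const_nat (m := Nat.card (Subgroup.centralizer ({w} : Set G)))]
    intro g hg
    obtain ⟨c, hc⟩ := isConj_iff.1 (Finset.mem_filter.1 hg).2.symm
    rw [← Fintype.card_coe, ← Nat.card_eq_fintype_card]
    refine Nat.card_congr
      { toFun := fun gh => ⟨c⁻¹ * gh.1.2, Subgroup.mem_centralizer_singleton_iff.2 ?_⟩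
        invFun := fun x => ⟨(g, c * x.1), ?_⟩
        left_inv := fun gh => by
          have := (Finset.mem_filter.1 gh.2).2
          ext <;> simp [this]
        right_inv := fun x => by simp }
    · obtain ⟨hm, hfst⟩ := Finset.mem_filter.1 gh.2
      have hm' := (Finset.mem_filter.1 hm).2
      rw [hfst, ← hc] at hm'
      calc c⁻¹ * gh.1.2 * w = c⁻¹ * (gh.1.2 * w * gh.1.2⁻¹) * gh.1.2 := by group
        _ = c⁻¹ * (c * w * c⁻¹) * gh.1.2 := by rw [← hm']
        _ = w * (c⁻¹ * gh.1.2) := by group
    · have hx : (x : G) * w = w * x := Subgroup.mem_centralizer_singleton_iff.1 x.2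
      simp only [hΩ, Finset.mem_filter, Finset.mem_univ, true_and, and_true]
      rw [← hc]
      calc c * w * c⁻¹ = c * (w * (x : G)) * (x : G)⁻¹ * c⁻¹ := by group
        _ = c * x.1 * w * (c * x.1)⁻¹ := by rw [← hx]; group
  have h2 : Ω.card = ∑ h : G, if P (h⁻¹ * S.t * h) then 120 else 0 := by
    rw [Finset.card_eq_sum_card_fiberwise (f := Prod.snd) (t := Finset.univ)
      (fun gh _ => Finset.mem_univ _)]
    refine Finset.sum_congr rfl fun h _ => ?_
    set T' := S.t * (h * w * h⁻¹) with hT'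
    have e1 : T' = h * (h⁻¹ * S.t * h * w) * h⁻¹ := by rw [hT']; group
    have e2 : (Ω.filter fun gh => gh.2 = h).card =
        (Finset.univ.filter fun g : G => g * S.t * g⁻¹ = T').card := by
      refine Finset.card_nbij' Prod.fst (fun g => (g, h)) ?_ ?_ ?_ ?_
      · intro gh hgh
        simp only [hΩ, Finset.coe_filter, Finset.mem_filter, Finset.mem_univ, true_and,
          Set.mem_setOf_eq] at hgh ⊢
        rw [hT', ← hgh.2, ← hgh.1, ← mul_assoc S.t S.t, S.t_sq, one_mul]
      · intro g hg
        simp only [hΩ, Finset.coe_filter, Finset.mem_filter, Finset.mem_univ, true_and,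
          Set.mem_setOf_eq, and_true] at hg ⊢
        rw [hg, hT', ← mul_assoc, S.t_sq, one_mul]
      · intro gh hgh
        simp only [Finset.coe_filter, Set.mem_setOf_eq] at hgh
        exact Prod.ext rfl hgh.2.symm
      · intro g _
        rfl
    rw [e2]
    by_cases hp : P (h⁻¹ * S.t * h)
    · rw [if_pos hp, S.card_fibre]
      · rw [e1]
        calc h * (h⁻¹ * S.t * h * w) * h⁻¹ * (h * (h⁻¹ * S.t * h * w) * h⁻¹)
            = h * (h⁻¹ * S.t * h * w * (h⁻¹ * S.t * h * w)) * h⁻¹ := by group
          _ = 1 := by rw [hp.1]; group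
      · intro he
        refine hp.2 ?_
        calc h⁻¹ * S.t * h * w = h⁻¹ * (h * (h⁻¹ * S.t * h * w) * h⁻¹) * h := by group
          _ = 1 := by rw [← e1, he]; group
    · rw [if_neg hp, Finset.card_eq_zero, Finset.filter_eq_empty_iff]
      intro g _ hg
      obtain ⟨h3, h4⟩ := S.not_conj_one T' (isConj_iff.2 ⟨g, hg⟩)
      refine hp ⟨?_, fun he => h4 ?_⟩
      · calc h⁻¹ * S.t * h * w * (h⁻¹ * S.t * h * w) = h⁻¹ * (T' * T') * h := by rw [e1]; group
          _ = 1 := by rw [h3]; group
      · rw [e1, he]; group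
  rw [← h1, h2, ← Finset.sum_fiberwise Finset.univ (fun h : G => h⁻¹ * S.t * h)]
  rw [show 14400 * (Finset.univ.filter fun T : G =>
      T * T = 1 ∧ T ≠ 1 ∧ T * w * (T * w) = 1 ∧ T * w ≠ 1).card =
    ∑ T : G, if T * T = 1 ∧ T ≠ 1 ∧ T * w * (T * w) = 1 ∧ T * w ≠ 1 then 14400 else 0 by
      rw [← Finset.sum_filter, Finset.sum_const, smul_eq_mul, mul_comm]]
  refine Finset.sum_congr rfl fun T _ => ?_
  rw [Finset.sum_congr rfl (g := fun _ : G => if P T then 120 else 0)
    (fun h hh => by rw [(Finset.mem_filter.1 hh).2]), Finset.sum_const, smul_eq_mul]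
  by_cases hinv : T * T = 1 ∧ T ≠ 1
  · have h120 : (Finset.univ.filter fun h : G => h⁻¹ * S.t * h = T).card = 120 := by
      rw [← S.card_fibre hinv.1 hinv.2]
      exact Finset.card_nbij' (fun h => h⁻¹) (fun h => h⁻¹) (fun h hh => by simpa using hh)
        (fun h hh => by simpa using hh) (fun h _ => inv_inv h) (fun h _ => inv_inv h)
    rw [h120]
    by_cases hp : P T
    · rw [if_pos hp, if_pos ⟨hinv.1, hinv.2, hp⟩]
    · rw [if_neg hp, if_neg fun h => hp h.2.2, mul_zero]
  · have hempty : (Finset.univ.filter fun h : G => h⁻¹ * S.t * h = T) = ∅ :=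
      Finset.filter_eq_empty_iff.2 fun k _ hk =>
        hinv (S.not_conj_one T (isConj_iff.2 ⟨k⁻¹, by rw [inv_inv, hk]⟩))
    rw [hempty, Finset.card_empty, zero_mul, if_neg]
    exact fun hc => hinv ⟨hc.1, hc.2.1⟩

/-- The pairs of involutions with product in the section of the involution. -/
theorem count_pairs [Fintype G] [DecidableEq G] {a : Model} (ha : a ^ 15 = 1) :
    (Finset.univ.filter fun T : G => T * T = 1 ∧ T ≠ 1 ∧ T * S.ι (tt * a) * (T * S.ι (tt * a)) = 1 ∧
      T * S.ι (tt * a) ≠ 1).card = pairs a := by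
  classical
  rw [pairs]
  symm
  refine Finset.card_bij (fun T _ => S.ι T) (fun T hT => ?_) (fun T _ T' _ h => S.ι_injective h)
    (fun T hT => ?_)
  · obtain ⟨h1, h2, h3, h4⟩ := (Finset.mem_filter.1 hT).2
    refine Finset.mem_filter.2 ⟨Finset.mem_univ _, by rw [← map_mul, h1, map_one], ?_,
      by rw [← map_mul, ← map_mul, h3, map_one], ?_⟩
    · exact fun h => h2 (S.ι_injective (h.trans (map_one S.ι).symm))
    · rw [← map_mul]
      exact fun h => h4 (S.ι_injective (h.trans (map_one S.ι).symm))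
  · obtain ⟨h1, h2, h3, h4⟩ := (Finset.mem_filter.1 hT).2
    set w := S.ι (tt * a) with hw
    have hw15 : w ^ 15 = S.t := by
      rw [hw, ← map_pow, (show Commute tt a from (tt_central a).symm).mul_pow, ha, mul_one,
        show tt ^ 15 = tt by decide +kernel, S.ι_tt]
    have hT' : T⁻¹ = T := inv_eq_of_mul_eq_one_right h1
    have hconjw : T * w * T⁻¹ = w⁻¹ := by
      rw [hT']
      exact eq_inv_of_mul_eq_one_left (by rw [mul_assoc]; simpa [mul_assoc] using h3)
    have hTC : T ∈ S.C := by
      refine Subgroup.mem_centralizer_singleton_iff.2 ?_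
      have : T * S.t * T⁻¹ = S.t := by
        rw [← hw15, ← conj_pow, hconjw, inv_pow, hw15, S.t_inv]
      calc T * S.t = T * S.t * T⁻¹ * T := by group
        _ = S.t * T := by rw [this]
    obtain ⟨b, rfl⟩ := S.mem_range hTC
    refine ⟨b, Finset.mem_filter.2 ⟨Finset.mem_univ _, S.ι_injective ?_, ?_, S.ι_injective ?_, ?_⟩, rfl⟩
    · rw [map_mul, map_one]; exact h1
    · rintro rfl; exact h2 (map_one _)
    · rw [map_mul, map_mul, map_one]; exact h3
    · intro h; exact h4 (by rw [hw, ← map_mul, h, map_one])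

end Setting

end Cfsg.Agent.Char.JankoOne
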