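import Cfsg.Agent.Lib.Char.JankoOne.Block
import Cfsg.Agent.Lib.Char.JankoOne.Local
import Cfsg.Agent.Lib.Block.ElemEight.Comb

/-!
Integrality and positivity from restricting characters to small subgroups of the centralizer.
-/

open scoped ComplexConjugate

set_option autoImplicit false
set_option linter.unusedSectionVars false
set_option linter.style.haveILetI false

namespace Cfsg.Agent.Char.JankoOne

open Cfsg

universe u

instance : DecidablePred (· ∈ V4) := fun a =>
  decidable_of_iff ((a : Equiv.Perm (Fin 5)) 4 = 4 ∧ a * a = 1) V4_mem.symm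

instance : DecidablePred (· ∈ A4) := fun a =>
  decidable_of_iff ((a : Equiv.Perm (Fin 5)) 4 = 4) A4_mem.symm

instance : DecidablePred (· ∈ S3) := fun a =>
  decidable_of_iff (3 ≤ ((a : Equiv.Perm (Fin 5)) 3 : ℕ) ∧ 3 ≤ ((a : Equiv.Perm (Fin 5)) 4 : ℕ))
    S3_mem.symm

theorem V4_fix : (∀ l : V4, fix (l : A5) ∈ ({5, 1, 2} : Finset ℕ)) ∧
    (Finset.univ.filter fun l : V4 => fix (l : A5) = 5).card = 1 ∧
    (Finset.univ.filter fun l : V4 => fix (l : A5) = 1).card = 3 ∧
    (Finset.univ.filter fun l : V4 => fix (l : A5) = 2).card = 0 ∧ Fintype.card V4 = 4 := by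
  decide +kernel

theorem A4_fix : (∀ l : A4, fix (l : A5) ∈ ({5, 1, 2} : Finset ℕ)) ∧
    (Finset.univ.filter fun l : A4 => fix (l : A5) = 5).card = 1 ∧
    (Finset.univ.filter fun l : A4 => fix (l : A5) = 1).card = 3 ∧
    (Finset.univ.filter fun l : A4 => fix (l : A5) = 2).card = 8 ∧ Fintype.card A4 = 12 := by
  decide +kernel

theorem S3_fix : (∀ l : S3, fix (l : A5) ∈ ({5, 1, 2} : Finset ℕ)) ∧
    (Finset.univ.filter fun l : S3 => fix (l : A5) = 5).card = 1 ∧
    (Finset.univ.filter fun l : S3 => fix (l : A5) = 1).card = 3 ∧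
    (Finset.univ.filter fun l : S3 => fix (l : A5) = 2).card = 2 ∧ Fintype.card S3 = 6 := by
  decide +kernel

theorem sum_fix {L : Subgroup A5} [Fintype L] (F : ℕ → ℂ)
    (h : ∀ l : L, fix (l : A5) ∈ ({5, 1, 2} : Finset ℕ)) {p q r : ℕ}
    (hp : (Finset.univ.filter fun l : L => fix (l : A5) = 5).card = p)
    (hq : (Finset.univ.filter fun l : L => fix (l : A5) = 1).card = q)
    (hr : (Finset.univ.filter fun l : L => fix (l : A5) = 2).card = r) :
    ∑ l : L, F (fix (l : A5)) = p * F 5 + q * F 1 + r * F 2 := by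
  have key : ∀ k : ℕ, ∑ l ∈ (Finset.univ.filter fun l : L => fix (l : A5) = k), F (fix (l : A5)) =
      ((Finset.univ.filter fun l : L => fix (l : A5) = k).card : ℂ) * F k := by
    intro k
    rw [Finset.sum_congr rfl (g := fun _ => F k) fun l hl => by rw [(Finset.mem_filter.1 hl).2],
      Finset.sum_const, nsmul_eq_mul]
  rw [← Finset.sum_fiberwise_of_maps_to (fun l _ => h l), Finset.sum_insert (by decide),
    Finset.sum_insert (by decide), Finset.sum_singleton, key, key, key, hp, hq, hr]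
  ring

/-- The cubic character of the alternating group on four points. -/
def cubic : A4 →* Multiplicative (ZMod 3) :=
  MonoidHom.mk' (fun l => Multiplicative.ofAdd
      (((Nat.xor ((l.1 : Equiv.Perm (Fin 5)) 0 : ℕ) ((l.1 : Equiv.Perm (Fin 5)) 1 : ℕ)) : ZMod 3) - 1))
    (by decide +kernel)

theorem cubic_fix : ∀ l : A4, (cubic l = 1 ↔ fix (l : A5) ≠ 2) := by decide +kernel

/-- A faithful linear character of the cyclic group of order three. -/
noncomputable def omegaHom : Multiplicative (ZMod 3) →* ℂˣ where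
  toFun z := (Units.mk0 (Complex.exp (2 * Real.pi * Complex.I / 3)) (Complex.exp_ne_zero _)) ^
    (Multiplicative.toAdd z).val
  map_one' := by rw [toAdd_one, ZMod.val_zero, pow_zero]
  map_mul' a b := by
    rw [toAdd_mul, ZMod.val_add, ← pow_add]
    refine (pow_eq_pow_mod _ ?_).symm
    refine Units.ext ?_
    rw [Units.val_pow_eq_pow_val, Units.val_mk0, Units.val_one]
    exact (by simpa using Complex.isPrimitiveRoot_exp 3 (by norm_num) :
      IsPrimitiveRoot (Complex.exp (2 * Real.pi * Complex.I / 3)) 3).pow_eq_one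

theorem omega_pair (z : Multiplicative (ZMod 3)) :
    (omegaHom z : ℂ) + ((omegaHom z : ℂ)) ^ 2 = if z = 1 then 2 else -1 := by
  have hω : IsPrimitiveRoot (Complex.exp (2 * Real.pi * Complex.I / 3)) 3 := by
    simpa using Complex.isPrimitiveRoot_exp 3 (by norm_num)
  set ω := Complex.exp (2 * Real.pi * Complex.I / 3) with hωd
  have h2 := Block.ElemEight.omega_sq hω
  have hv : (omegaHom z : ℂ) = ω ^ (Multiplicative.toAdd z).val := by
    rw [hωd]
    exact Units.val_pow_eq_pow_val _ _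
  have hz : z = 1 ∨ z = Multiplicative.ofAdd 1 ∨ z = Multiplicative.ofAdd 2 :=
    (show ∀ z : Multiplicative (ZMod 3), z = 1 ∨ z = Multiplicative.ofAdd 1 ∨ z = Multiplicative.ofAdd 2
      by decide +kernel) z
  rw [hv]
  rcases hz with rfl | rfl | rfl
  · rw [toAdd_one, ZMod.val_zero, pow_zero, if_pos rfl]; norm_num
  · rw [if_neg (by decide), show (Multiplicative.toAdd (Multiplicative.ofAdd (1 : ZMod 3))).val = 1 from
      rfl, pow_one, h2]
    ring
  · rw [if_neg (by decide), show (Multiplicative.toAdd (Multiplicative.ofAdd (2 : ZMod 3))).val = 2 from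
      rfl, h2]
    linear_combination h2

theorem A4_pair : IsCharacter A4 (fun l : A4 => (((if fix (l : A5) = 2 then -1 else 2) : ℤ) : ℂ)) := by
  have h := IsChar.add (IsIrr.isCharacter (isIrr_linear (omegaHom.comp cubic)))
    (IsIrr.isCharacter (isIrr_linear ((omegaHom.comp cubic) ^ 2)))
  convert h using 1
  funext l
  have h' := omega_pair (cubic l)
  simp only [Pi.add_apply, MonoidHom.pow_apply, Units.val_pow_eq_pow_val, MonoidHom.coe_comp,
    Function.comp_apply]
  rw [h']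
  by_cases hf : fix (l : A5) = 2
  · rw [if_pos hf, if_neg (fun e => (cubic_fix l).1 e hf)]; norm_num
  · rw [if_neg hf, if_pos ((cubic_fix l).2 hf)]; norm_num

/-- The sign of the symmetric group on three points. -/
def sgnThree : S3 →* ℤˣ :=
  MonoidHom.mk' (fun l => if fix (l : A5) = 1 then -1 else 1) (by decide +kernel)

theorem S3_sign : IsCharacter S3 (fun l : S3 => (((if fix (l : A5) = 1 then -1 else 1) : ℤ) : ℂ)) := by
  have h := IsIrr.isCharacter (isIrr_linear ((Units.map (Int.castRingHom ℂ : ℤ →* ℂ)).comp sgnThree))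
  convert h using 1
  funext l
  change _ = (((sgnThree l : ℤˣ) : ℤ) : ℂ)
  rw [sgnThree, MonoidHom.mk'_apply]
  split_ifs <;> rfl

variable {G : Type u} [Group G] [Finite G]

/-- A multiplicity in the restriction to the product of the central factor with a subgroup. -/
theorem exists_mult {χ : G → ℂ} (hχ : IsCharacter G χ) (φ : Model →* G) {L : Subgroup A5}
    [Fintype L] (Θ : ℕ → ℤ) (hΘ : IsCharacter L (fun l : L => (Θ (fix (l : A5)) : ℂ)))
    (η : Multiplicative (ZMod 2) →* ℂˣ) {s : ℤ} (hη : (η (Multiplicative.ofAdd 1) : ℂ) = s) :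
    ∃ m : ℕ, ∑ l : L, (Θ (fix (l : A5)) : ℂ) *
      (χ (φ (1, (l : A5))) + (s : ℂ) * χ (φ (tt * (1, (l : A5))))) =
        2 * (Fintype.card L : ℂ) * m := by
  classical
  obtain ⟨m, hm⟩ := IsChar.classInner_nat
    (IsChar.comp (φ.comp (MonoidHom.prodMap (MonoidHom.id _) L.subtype)) hχ)
    (IsChar.mul (IsChar.comp (MonoidHom.fst (Multiplicative (ZMod 2)) L)
      (IsIrr.isCharacter (isIrr_linear η))) (IsChar.comp (MonoidHom.snd (Multiplicative (ZMod 2)) L) hΘ))
  refine ⟨m, ?_⟩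
  have huniv : (Finset.univ : Finset (Multiplicative (ZMod 2))) = {1, Multiplicative.ofAdd 1} := by
    decide +kernel
  rw [classInner, Nat.card_prod, Nat.card_eq_fintype_card, Nat.card_eq_fintype_card,
    show Fintype.card (Multiplicative (ZMod 2)) = 2 from rfl, Fintype.sum_prod_type, huniv,
    Finset.sum_pair (by decide)] at hm
  simp only [MonoidHom.coe_comp, Function.comp_apply, Pi.mul_apply, MonoidHom.coe_fst,
    MonoidHom.coe_snd, MonoidHom.prodMap, MonoidHom.prod_apply, MonoidHom.id_apply,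
    Subgroup.subtype_apply, map_mul, map_intCast, map_one, Units.val_one, hη] at hm
  have h0 : (2 : ℂ) * (Fintype.card L : ℂ) ≠ 0 :=
    mul_ne_zero two_ne_zero (Nat.cast_ne_zero.2 Fintype.card_ne_zero)
  rw [Nat.cast_mul, Nat.cast_ofNat, inv_mul_eq_iff_eq_mul₀ h0] at hm
  rw [← hm, ← Finset.sum_add_distrib]
  refine Finset.sum_congr rfl fun l _ => ?_
  rw [show tt * ((1 : Multiplicative (ZMod 2)), (l : A5)) = (Multiplicative.ofAdd 1, (l : A5)) from
    Prod.ext (mul_one _) (one_mul _)]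
  ring

theorem signHom_one : ((signHom (Multiplicative.ofAdd 1) : ℂˣ) : ℂ) = ((-1 : ℤ) : ℂ) := by
  rw [show signHom (Multiplicative.ofAdd 1) = -1 by simp [signHom]]
  simp

namespace Setting

variable (S : Setting G)

theorem value_fix {χ : G → ℂ} (hχ : IsClassFunction G χ) {x σ : ℤ} (hx : χ 1 = x)
    (hσ : χ S.t = σ) (a : A5) (ha : fix a ∈ ({5, 1, 2} : Finset ℕ)) :
    χ (S.ι (1, a)) = (if fix a = 5 then (x : ℂ) else if fix a = 1 then (σ : ℂ) else χ (S.ι (1, y3))) ∧
    χ (S.ι (tt * (1, a))) =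
      (if fix a = 5 then (σ : ℂ) else if fix a = 1 then (σ : ℂ) else χ (S.ι (tt * (1, y3)))) := by
  rcases fix_cases a with ⟨hf, rfl⟩ | ⟨hf, c, rfl⟩ | ⟨hf, c, rfl⟩ | hf
  · rw [if_pos hf, if_pos hf]
    refine ⟨?_, ?_⟩
    · rw [show ((1, 1) : Model) = 1 from rfl, map_one, hx]
    · rw [show ((1, 1) : Model) = 1 from rfl, mul_one, S.ι_tt, hσ]
  · rw [if_neg (by omega), if_pos hf, if_neg (by omega), if_pos hf]
    have hu : ∀ z : Multiplicative (ZMod 2), ((z, uu) : Model) * (z, uu) = 1 ∧ ((z, uu) : Model) ≠ 1 := by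
      decide +kernel
    have key : ∀ z : Multiplicative (ZMod 2), χ (S.ι (z, c * uu * c⁻¹)) = σ := fun z => by
      have h1 : IsConj S.t (S.ι (z, c * uu * c⁻¹)) := by
        refine (S.conj_involution (x := S.ι (z, uu)) (by rw [← map_mul, (hu z).1, map_one])
          (fun h => (hu z).2 (S.ι_injective (h.trans (map_one _).symm)))).trans
          (isConj_iff.2 ⟨S.ι (1, c), ?_⟩)
        rw [← map_inv, ← map_mul, ← map_mul]
        exact congrArg S.ι (Prod.ext (by simp) (by simp))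
      rw [← IsClass.eq_of_isConj hχ h1, hσ]
    exact ⟨key 1, by rw [show tt * ((1 : Multiplicative (ZMod 2)), c * uu * c⁻¹) =
      (Multiplicative.ofAdd 1, c * uu * c⁻¹) from Prod.ext (mul_one _) (one_mul _)]; exact key _⟩
  · rw [if_neg (by omega), if_neg (by omega), if_neg (by omega), if_neg (by omega)]
    have key : ∀ z : Model, IsConj (S.ι (z * (1, y3))) (S.ι (z * (1, c * y3 * c⁻¹))) ∨ z.2 ≠ 1 :=
      fun z => by
        by_cases hz : z.2 = 1
        · refine Or.inl (isConj_iff.2 ⟨S.ι (1, c), ?_⟩)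
          rw [← map_inv, ← map_mul, ← map_mul]
          refine congrArg S.ι (Prod.ext ?_ ?_)
          · simp
          · simp [hz]
        · exact Or.inr hz
    refine ⟨?_, ?_⟩
    · have := (key 1).resolve_right (fun h => h rfl)
      rw [one_mul, one_mul] at this
      exact (IsClass.eq_of_isConj hχ this).symm
    · exact (IsClass.eq_of_isConj hχ ((key tt).resolve_right fun h => h rfl)).symm
  · rw [hf] at ha
    simp at ha

/-- The multiplicities attached to a character. -/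
theorem exists_split {χ : G → ℂ} (hχ : IsCharacter G χ) {x σ : ℤ} (hx : χ 1 = x)
    (hσ : χ S.t = σ) :
    ∃ N m k N' m' : ℕ, x + 7 * σ = 8 * N ∧ x - σ = 8 * N' ∧ m ≤ N ∧ m' ≤ N' ∧
      x - 5 * σ + 2 * (3 * (m : ℤ) - N) = 12 * k ∧
      χ (S.ι (1, y3)) + χ (S.ι (tt * (1, y3))) = ((3 * (m : ℤ) - N : ℤ) : ℂ) ∧
      χ (S.ι (1, y3)) - χ (S.ι (tt * (1, y3))) = ((3 * (m' : ℤ) - N' : ℤ) : ℂ) := by
  classical
  set T := χ (S.ι (1, y3)) with hT
  set U := χ (S.ι (tt * (1, y3))) with hU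
  have hv := S.value_fix (IsChar.classFun hχ) hx hσ
  have key : ∀ (L : Subgroup A5) [Fintype L] (Θ : ℕ → ℤ)
      (_ : IsCharacter L (fun l : L => (Θ (fix (l : A5)) : ℂ)))
      (η : Multiplicative (ZMod 2) →* ℂˣ) (s : ℤ) (_ : (η (Multiplicative.ofAdd 1) : ℂ) = s)
      (_ : ∀ l : L, fix (l : A5) ∈ ({5, 1, 2} : Finset ℕ)) (p q r n : ℕ)
      (_ : (Finset.univ.filter fun l : L => fix (l : A5) = 5).card = p)
      (_ : (Finset.univ.filter fun l : L => fix (l : A5) = 1).card = q)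
      (_ : (Finset.univ.filter fun l : L => fix (l : A5) = 2).card = r) (_ : Fintype.card L = n),
      ∃ m : ℕ, (p : ℂ) * (Θ 5 * (x + s * σ)) + q * (Θ 1 * (σ + s * σ)) + r * (Θ 2 * (T + s * U)) =
        2 * (n : ℂ) * m := by
    intro L _ Θ hΘ η s hη hmem p q r n hp hq hr hn
    obtain ⟨m, hm⟩ := exists_mult hχ S.ι Θ hΘ η hη
    refine ⟨m, ?_⟩
    rw [← hn, ← hm]
    have hs := sum_fix (L := L) (fun f => (Θ f : ℂ) * (if f = 5 then (x + s * σ : ℂ) else
      if f = 1 then (σ + s * σ : ℂ) else (T + s * U))) hmem hp hq hr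
    norm_num at hs
    rw [← hs]
    refine Finset.sum_congr rfl fun l _ => ?_
    rw [(hv _ (hmem l)).1, (hv _ (hmem l)).2]
    split_ifs <;> rfl
  have htriv : ∀ L : Subgroup A5,
      IsCharacter L (fun l : L => (((fun _ : ℕ => (1 : ℤ)) (fix (l : A5))) : ℂ)) := fun L => by
    simpa using (IsChar.one (G := L))
  have h1 : (((1 : Multiplicative (ZMod 2) →* ℂˣ) (Multiplicative.ofAdd 1) : ℂˣ) : ℂ) = ((1 : ℤ) : ℂ) := by
    simp
  obtain ⟨hV, pV5, pV1, pV2, cV⟩ := V4_fix
  obtain ⟨hA, pA5, pA1, pA2, cA⟩ := A4_fix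
  obtain ⟨hS, pS5, pS1, pS2, cS⟩ := S3_fix
  obtain ⟨N, hN⟩ := key V4 (fun _ => 1) (htriv _) 1 1 h1 hV _ _ _ _ pV5 pV1 pV2 cV
  obtain ⟨N', hN'⟩ := key V4 (fun _ => 1) (htriv _) signHom (-1) signHom_one hV _ _ _ _ pV5 pV1 pV2 cV
  obtain ⟨m, hm⟩ := key A4 (fun _ => 1) (htriv _) 1 1 h1 hA _ _ _ _ pA5 pA1 pA2 cA
  obtain ⟨m', hm'⟩ := key A4 (fun _ => 1) (htriv _) signHom (-1) signHom_one hA _ _ _ _ pA5 pA1 pA2 cA
  obtain ⟨n, hn⟩ := key A4 (fun f => if f = 2 then -1 else 2) A4_pair 1 1 h1 hA _ _ _ _ pA5 pA1 pA2 cA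
  obtain ⟨n', hn'⟩ := key A4 (fun f => if f = 2 then -1 else 2) A4_pair signHom (-1) signHom_one hA
    _ _ _ _ pA5 pA1 pA2 cA
  obtain ⟨k, hk⟩ := key S3 (fun f => if f = 1 then -1 else 1) S3_sign 1 1 h1 hS _ _ _ _ pS5 pS1 pS2 cS
  norm_num at hN hN' hm hm' hn hn' hk
  have e1 : x + 7 * σ = 8 * N := by
    have : ((x + 7 * σ : ℤ) : ℂ) = ((8 * N : ℤ) : ℂ) := by push_cast; linear_combination hN
    exact_mod_cast this
  have e2 : x - σ = 8 * N' := by
    have : ((x - σ : ℤ) : ℂ) = ((8 * N' : ℤ) : ℂ) := by push_cast; linear_combination hN'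
    exact_mod_cast this
  have p1 : T + U = ((3 * (m : ℤ) - N : ℤ) : ℂ) := by
    push_cast; linear_combination (hm - hN) / 8
  have p2 : T - U = ((3 * (m' : ℤ) - N' : ℤ) : ℂ) := by
    push_cast; linear_combination (hm' - hN') / 8
  have e3 : (n : ℤ) + m = N := by
    have : (((n : ℤ) + m : ℤ) : ℂ) = ((N : ℤ) : ℂ) := by
      push_cast; linear_combination (2 * hN - hn) / 24 + (hN - hm) / 24
    exact_mod_cast this
  have e4 : (n' : ℤ) + m' = N' := by
    have : (((n' : ℤ) + m' : ℤ) : ℂ) = ((N' : ℤ) : ℂ) := by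
      push_cast; linear_combination (2 * hN' - hn') / 24 + (hN' - hm') / 24
    exact_mod_cast this
  refine ⟨N, m, k, N', m', e1, e2, by omega, by omega, ?_, p1, p2⟩
  have : ((x - 5 * σ + 2 * (3 * (m : ℤ) - N) : ℤ) : ℂ) = ((12 * k : ℤ) : ℂ) := by
    push_cast at p1 ⊢
    linear_combination hk - 2 * p1
  exact_mod_cast this

end Setting

end Cfsg.Agent.Char.JankoOne
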