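import Cfsg.Agent.Lib.Char.JankoOne.Section
import Cfsg.Agent.Lib.Char.JankoOne.Restrict
import Cfsg.Agent.Lib.Block.ElemEight.Values

/-!
Degrees and the values on an element of order three in the principal block.
-/

open scoped ComplexConjugate

set_option autoImplicit false
set_option linter.unusedSectionVars false
set_option linter.style.haveILetI false

namespace Cfsg.Agent.Char.JankoOne

open Cfsg Cfsg.Agent.Block

universe u

variable {G : Type u} [Group G] [Finite G] {M : Ideal AlgInt} (S : Setting G)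

/-- The numerical data of the principal block. -/
structure BlockData (S : Setting G) (M : Ideal AlgInt) (τ : IrrCharacter G → IrrCharacter G)
    (v0 v1 v2 : IrrCharacter G → ℤ) (x T : IrrCharacter G → ℤ) : Prop where
  gram : Gram (Setting.B (G := G) M) (trivialIrr G) τ v0 v1 v2
  one : x (trivialIrr G) = 1 ∧ T (trivialIrr G) = 1
  inv : ∀ χ, x (τ χ) = x χ ∧ T (τ χ) = T χ
  bound : ∀ χ ∈ Setting.B (G := G) M, χ ≠ trivialIrr G →
    0 < x χ ∧ v0 χ + 2 * v1 χ + 2 * v2 χ < x χ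
  split : ∀ χ : IrrCharacter G, χ ∈ Setting.B (G := G) M → ∃ N m k N' m' : ℕ,
    x χ + 7 * (v0 χ + 2 * v1 χ + 2 * v2 χ) = 8 * N ∧
    x χ - (v0 χ + 2 * v1 χ + 2 * v2 χ) = 8 * N' ∧ m ≤ N ∧ m' ≤ N' ∧
    x χ - 5 * (v0 χ + 2 * v1 χ + 2 * v2 χ) + 2 * (3 * (m : ℤ) - N) = 12 * k ∧
    T χ + (v0 χ - v1 χ - v2 χ) = 3 * (m : ℤ) - N ∧
    T χ - (v0 χ - v1 χ - v2 χ) = 3 * (m' : ℤ) - N'
  deg0 : ∑ χ ∈ Setting.B (G := G) M, v0 χ * x χ = 0
  deg1 : ∑ χ ∈ Setting.B (G := G) M, v1 χ * x χ = 0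
  three0 : ∑ χ ∈ Setting.B (G := G) M, v0 χ * T χ = 0
  three1 : ∑ χ ∈ Setting.B (G := G) M, v1 χ * T χ = 0
  prod0 : ∑ χ ∈ Setting.B (G := G) M,
    ((v0 χ + 2 * v1 χ + 2 * v2 χ : ℤ) : ℂ) ^ 2 / (x χ : ℂ) * (v0 χ : ℂ) =
      14 * 14400 / (Nat.card G : ℂ)
  prod1 : ∑ χ ∈ Setting.B (G := G) M,
    ((v0 χ + 2 * v1 χ + 2 * v2 χ : ℤ) : ℂ) ^ 2 / (x χ : ℂ) * (v1 χ : ℂ) =
      4 * 14400 / (Nat.card G : ℂ)

namespace Setting

theorem orth_coords (hM : IsPModular 2 M) {v0 v1 v2 : IrrCharacter G → ℤ}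
    (hv : ∀ χ : IrrCharacter G, (χ : G → ℂ) S.t = v0 χ + 2 * v1 χ + 2 * v2 χ ∧
      (χ : G → ℂ) (S.t * S.ι (1, f5)) = ((v0 χ - v2 χ : ℤ) : ℂ) + ((v1 χ - v2 χ : ℤ) : ℂ) * W)
    {g : G} (hg : ¬ 2 ∣ orderOf g) (F : IrrCharacter G → ℤ)
    (hF : ∀ χ ∈ B (G := G) M, (χ : G → ℂ) g⁻¹ = F χ) :
    ∑ χ ∈ B (G := G) M, v0 χ * F χ = 0 ∧ ∑ χ ∈ B (G := G) M, v1 χ * F χ = 0 := by
  have h1 := S.orth hM (a := 1) (one_pow _) hg
  have h2 := S.orth hM (a := (1, f5)) (by decide +kernel) hg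
  rw [map_one, mul_one] at h1
  have e1 : ∑ χ ∈ B (G := G) M, (v0 χ + 2 * v1 χ + 2 * v2 χ) * F χ = 0 := by
    have : ((∑ χ ∈ B (G := G) M, (v0 χ + 2 * v1 χ + 2 * v2 χ) * F χ : ℤ) : ℂ) = ((0 : ℤ) : ℂ) := by
      rw [Int.cast_zero, ← h1]
      push_cast
      exact Finset.sum_congr rfl fun χ hχ => by rw [(hv χ).1, hF χ hχ]
    exact_mod_cast this
  obtain ⟨e2, e3⟩ : ∑ χ ∈ B (G := G) M, (v0 χ - v2 χ) * F χ = 0 ∧
      ∑ χ ∈ B (G := G) M, (v1 χ - v2 χ) * F χ = 0 := by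
    refine W_sep ?_
    rw [← h2]
    push_cast
    rw [Finset.sum_mul, ← Finset.sum_add_distrib]
    exact Finset.sum_congr rfl fun χ hχ => by rw [(hv χ).2, hF χ hχ]; push_cast; ring
  simp only [add_mul, sub_mul, mul_assoc, Finset.sum_add_distrib, Finset.sum_sub_distrib,
    ← Finset.mul_sum] at e1 e2 e3
  constructor <;> omega

theorem value_six (hM : IsPModular 2 M) {v0 v1 v2 : IrrCharacter G → ℤ}
    (hgram : ∃ τ, Gram (B (G := G) M) (trivialIrr G) τ v0 v1 v2)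
    (hv : ∀ χ : IrrCharacter G, (χ : G → ℂ) S.t = v0 χ + 2 * v1 χ + 2 * v2 χ ∧
      (χ : G → ℂ) (S.t * S.ι (1, f5)) = ((v0 χ - v2 χ : ℤ) : ℂ) + ((v1 χ - v2 χ : ℤ) : ℂ) * W)
    (R : IrrCharacter G → ℤ)
    (hR : ∀ χ : IrrCharacter G, 2 * (χ : G → ℂ) (S.t * S.ι (1, y3)) = R χ) :
    ∀ χ ∈ B (G := G) M, R χ = 2 * (v0 χ - v1 χ - v2 χ) := by
  obtain ⟨τ, hg⟩ := hgram
  have hconj : ∀ χ : IrrCharacter G, conj ((χ : G → ℂ) (S.t * S.ι (1, y3))) =
      (χ : G → ℂ) (S.t * S.ι (1, y3)) := fun χ => by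
    have : (χ : G → ℂ) (S.t * S.ι (1, y3)) = (R χ : ℂ) / 2 := by rw [← hR χ]; ring
    rw [this, map_div₀, map_intCast, map_ofNat]
  have hy : ((1, y3) : Model) ^ 15 = 1 := by decide +kernel
  have hf : ((1, f5) : Model) ^ 15 = 1 := by decide +kernel
  have k33 := S.kernel hM hy hy (m := 6) (by decide +kernel)
  have k31 := S.kernel hM hy (b := 1) (one_pow _) (m := 0) (by decide +kernel)
  have k3f := S.kernel hM hy hf (m := 0) (by decide +kernel)
  rw [map_one, mul_one] at k31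
  have p3 : psi ((1, y3) : Model).2 = 1 := by decide +kernel
  have p1 : psi (1 : Model).2 = 4 := by decide +kernel
  have p5 : psi ((1, f5) : Model).2 = -1 := by decide +kernel
  simp only [p3, p1, p5] at k33 k31 k3f
  set B0 := B (G := G) M with hB0
  have e33 : ∑ χ ∈ B0, R χ ^ 2 = 16 := by
    have : ((∑ χ ∈ B0, R χ ^ 2 : ℤ) : ℂ) = ((16 : ℤ) : ℂ) := by
      push_cast
      rw [Finset.sum_congr rfl (g := fun χ : IrrCharacter G => 4 * ((χ : G → ℂ) (S.t * S.ι (1, y3)) *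
        conj ((χ : G → ℂ) (S.t * S.ι (1, y3))))) (fun χ _ => by rw [hconj, ← hR]; ring),
        ← Finset.mul_sum, k33]
      norm_num
    exact_mod_cast this
  have e31 : ∑ χ ∈ B0, R χ * (v0 χ + 2 * v1 χ + 2 * v2 χ) = -16 := by
    have : ((∑ χ ∈ B0, R χ * (v0 χ + 2 * v1 χ + 2 * v2 χ) : ℤ) : ℂ) = ((-16 : ℤ) : ℂ) := by
      push_cast
      rw [Finset.sum_congr rfl (g := fun χ : IrrCharacter G => 2 * ((χ : G → ℂ) (S.t * S.ι (1, y3)) *
        conj ((χ : G → ℂ) S.t))) (fun χ _ => by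
          rw [← hR, (hv χ).1]
          simp only [map_add, map_mul, map_ofNat, map_intCast]
          ring),
        ← Finset.mul_sum, k31]
      norm_num
    exact_mod_cast this
  obtain ⟨ea, eb⟩ : ∑ χ ∈ B0, R χ * (v0 χ - v2 χ) = 4 ∧ ∑ χ ∈ B0, R χ * (v1 χ - v2 χ) = 0 := by
    refine W_ext ?_
    push_cast
    rw [Finset.sum_mul, ← Finset.sum_add_distrib,
      Finset.sum_congr rfl (g := fun χ : IrrCharacter G => 2 * ((χ : G → ℂ) (S.t * S.ι (1, y3)) *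
        conj ((χ : G → ℂ) (S.t * S.ι (1, f5))))) (fun χ _ => by
          rw [← hR, (hv χ).2, map_add, map_mul, map_intCast, map_intCast, W_conj]
          push_cast
          ring),
      ← Finset.mul_sum, k3f]
    norm_num
  have hw : ∑ χ ∈ B0, (v0 χ - v1 χ - v2 χ) ^ 2 = 4 := by
    have h : ∀ χ ∈ B0, (v0 χ - v1 χ - v2 χ) ^ 2 = v0 χ ^ 2 + v1 χ ^ 2 + v2 χ ^ 2 -
        2 * (v0 χ * v1 χ) - 2 * (v0 χ * v2 χ) + 2 * (v1 χ * v2 χ) := fun χ _ => by ring
    rw [Finset.sum_congr rfl h]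
    simp only [Finset.sum_add_distrib, Finset.sum_sub_distrib, ← Finset.mul_sum, hg.s00, hg.s11,
      hg.s22, hg.s01, hg.s02, hg.s12]
    norm_num
  have hcross : 5 * ∑ χ ∈ B0, R χ * (v0 χ - v1 χ - v2 χ) = 40 := by
    have h : ∀ χ ∈ B0, 5 * (R χ * (v0 χ - v1 χ - v2 χ)) = 6 * (R χ * (v0 χ - v2 χ)) -
        3 * (R χ * (v1 χ - v2 χ)) - R χ * (v0 χ + 2 * v1 χ + 2 * v2 χ) := fun χ _ => by ring
    rw [Finset.mul_sum, Finset.sum_congr rfl h]
    simp only [Finset.sum_sub_distrib, ← Finset.mul_sum, e31, ea, eb]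
    norm_num
  have hzero : ∑ χ ∈ B0, (R χ - 2 * (v0 χ - v1 χ - v2 χ)) ^ 2 = 0 := by
    have h : ∀ χ ∈ B0, (R χ - 2 * (v0 χ - v1 χ - v2 χ)) ^ 2 = R χ ^ 2 -
        4 * (R χ * (v0 χ - v1 χ - v2 χ)) + 4 * (v0 χ - v1 χ - v2 χ) ^ 2 := fun χ _ => by ring
    rw [Finset.sum_congr rfl h]
    simp only [Finset.sum_add_distrib, Finset.sum_sub_distrib, ← Finset.mul_sum, e33, hw]
    omega
  intro χ hχ
  have := (Finset.sum_eq_zero_iff_of_nonneg fun χ _ => sq_nonneg _).1 hzero χ hχ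
  have := pow_eq_zero_iff (n := 2) (by norm_num) |>.1 this
  omega

theorem exists_data [IsSimpleGroup G] (hM : IsPModular 2 M) :
    ∃ τ v0 v1 v2 x T, BlockData S M τ v0 v1 v2 x T := by
  classical
  obtain ⟨τ, v0, v1, v2, hgram, hτ, hv⟩ := S.exists_gram hM
  choose n hnpos hn using fun χ : IrrCharacter G => IsIrr.one_eq_pos χ.2
  set x : IrrCharacter G → ℤ := fun χ => (n χ : ℤ) with hxd
  have hx : ∀ χ : IrrCharacter G, (χ : G → ℂ) 1 = (x χ : ℂ) := fun χ => by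
    rw [hn χ, hxd]; simp
  have hσ : ∀ χ : IrrCharacter G, (χ : G → ℂ) S.t = ((v0 χ + 2 * v1 χ + 2 * v2 χ : ℤ) : ℂ) :=
    fun χ => by rw [(hv χ).1]; push_cast; ring
  choose N m k N' m' hN hN' hmN hmN' hk hP hQ using fun χ : IrrCharacter G =>
    S.exists_split (IsIrr.isCharacter χ.2) (hx χ) (hσ χ)
  have hU : ∀ χ : IrrCharacter G, (χ : G → ℂ) (S.ι (tt * (1, y3))) =
      (χ : G → ℂ) (S.t * S.ι (1, y3)) := fun χ => by rw [S.ι_mul_t]
  have hsix := S.value_six hM ⟨τ, hgram⟩ hv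
    (fun χ => (3 * (m χ : ℤ) - N χ) - (3 * (m' χ : ℤ) - N' χ)) (fun χ => by
      rw [Int.cast_sub, ← hP χ, ← hQ χ, hU]; ring)
  set T : IrrCharacter G → ℤ := fun χ => (3 * (m χ : ℤ) - N χ) - (v0 χ - v1 χ - v2 χ) with hTd
  have hT : ∀ χ ∈ B (G := G) M, (χ : G → ℂ) (S.ι (1, y3)) = (T χ : ℂ) := fun χ hχ => by
    have e1 := hP χ
    have e2 := hQ χ
    have e3 : ((((3 * (m χ : ℤ) - N χ) - (3 * (m' χ : ℤ) - N' χ)) : ℤ) : ℂ) =
        ((2 * (v0 χ - v1 χ - v2 χ) : ℤ) : ℂ) := congrArg _ (hsix χ hχ)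
    rw [hTd]
    push_cast at e1 e2 e3 ⊢
    linear_combination (e1 + e2) / 2 - e3 / 2
  set T' : IrrCharacter G → ℤ := fun χ => if χ ∈ B (G := G) M then T χ else 0 with hT'
  have htr : ∀ g : G, (trivialIrr G : G → ℂ) g = 1 := fun _ => rfl
  have hyodd : ¬ 2 ∣ orderOf (S.ι (1, y3))⁻¹ := by
    rw [orderOf_inv, orderOf_injective _ S.ι_injective]
    intro h
    have := h.trans (orderOf_dvd_of_pow_eq_one (show ((1, y3) : Model) ^ 3 = 1 by decide +kernel))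
    norm_num at this
  have hdeg := S.orth_coords hM hv (g := 1) (by rw [orderOf_one]; norm_num) x
    (fun χ _ => by rw [inv_one, hx])
  have hthree := S.orth_coords hM hv hyodd T' (fun χ hχ => by
    rw [inv_inv, hT χ hχ, hT']; simp only [if_pos hχ])
  have hsymm : ∀ F : IrrCharacter G → ℂ, ∑ χ ∈ B (G := G) M, F (τ χ) = ∑ χ ∈ B (G := G) M, F χ := by
    intro F
    have himg : (B (G := G) M).image τ = B (G := G) M := Finset.eq_of_subset_of_card_le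
      (Finset.image_subset_iff.2 fun χ hχ => (hgram.mem χ hχ).1)
      (by rw [Finset.card_image_of_injective _ hgram.inj])
    conv_rhs => rw [← himg, Finset.sum_image fun a _ b _ h => hgram.inj h]
  set P : (IrrCharacter G → ℤ) → ℂ := fun v => ∑ χ ∈ B (G := G) M,
    ((v0 χ + 2 * v1 χ + 2 * v2 χ : ℤ) : ℂ) ^ 2 / (x χ : ℂ) * (v χ : ℂ) with hPd
  have hxinv : ∀ χ, x (τ χ) = x χ := fun χ => by
    have := (hτ χ).1
    rw [hx, hx] at this
    exact_mod_cast this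
  have hP12 : P v1 = P v2 := by
    rw [hPd]
    simp only []
    rw [← hsymm]
    refine Finset.sum_congr rfl fun χ hχ => ?_
    obtain ⟨-, a0, a1, a2⟩ := hgram.mem χ hχ
    rw [hxinv, a0, a1, a2]
    push_cast
    ring
  have hq1 := S.product_block hM (a := 1) (one_pow _)
  have hq5 := S.product_block hM (a := (1, f5)) (by decide +kernel)
  rw [map_one, mul_one, pairs_inv.1] at hq1
  rw [pairs_inv.2.2.1] at hq5
  have hE1 : P v0 + 2 * P v1 + 2 * P v2 = 14400 * 30 / (Nat.card G : ℂ) := by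
    rw [hPd]
    simp only []
    rw [Finset.mul_sum, Finset.mul_sum, ← Finset.sum_add_distrib, ← Finset.sum_add_distrib]
    refine Eq.trans (Finset.sum_congr rfl fun χ _ => ?_) (hq1.trans (by norm_num))
    rw [hσ, hx]
    push_cast
    ring
  have hE5 : (P v0 - P v2) + (P v1 - P v2) * W = 14400 * 10 / (Nat.card G : ℂ) := by
    rw [hPd]
    simp only []
    rw [← Finset.sum_sub_distrib, ← Finset.sum_sub_distrib, Finset.sum_mul, ← Finset.sum_add_distrib]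
    refine Eq.trans (Finset.sum_congr rfl fun χ _ => ?_) (hq5.trans (by norm_num))
    rw [hσ, hx, (hv χ).2]
    push_cast
    ring
  rw [← hP12, sub_self, zero_mul, add_zero] at hE5
  rw [← hP12] at hE1
  refine ⟨τ, v0, v1, v2, x, T', hgram, ⟨?_, ?_⟩, fun χ => ⟨hxinv χ, ?_⟩, ?_, ?_, hdeg.1, hdeg.2,
    hthree.1, hthree.2, ?_, ?_⟩
  · have := hx (trivialIrr G)
    rw [htr] at this
    exact_mod_cast this.symm
  · have h := hT _ hgram.he0
    rw [htr] at h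
    rw [hT']
    simp only [if_pos hgram.he0]
    exact_mod_cast h.symm
  · rw [hT']
    by_cases hχ : χ ∈ B (G := G) M
    · have h1 := (hτ χ).2
      rw [hT χ hχ, hT _ (hgram.mem χ hχ).1] at h1
      simp only [if_pos hχ, if_pos (hgram.mem χ hχ).1]
      exact_mod_cast h1
    · have himg : (B (G := G) M).image τ = B (G := G) M := Finset.eq_of_subset_of_card_le
        (Finset.image_subset_iff.2 fun χ hχ => (hgram.mem χ hχ).1)
        (by rw [Finset.card_image_of_injective _ hgram.inj])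
      have : τ χ ∉ B (G := G) M := by
        rw [← himg]
        intro h
        obtain ⟨ψ, hψ, hψe⟩ := Finset.mem_image.1 h
        exact hχ (hgram.inj hψe ▸ hψ)
      simp only [if_neg hχ, if_neg this]
  · intro χ _ hne
    have hpos : (0 : ℤ) < x χ := by simp only [hxd]; exact_mod_cast hnpos χ
    refine ⟨hpos, lt_of_le_of_ne ?_ fun h => hne ?_⟩
    · have := hN' χ
      omega
    · refine ElemEight.eq_trivial_of_ker χ S.t_ne ?_
      rw [hσ, hx, h]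
  · intro χ hχ
    refine ⟨N χ, m χ, k χ, N' χ, m' χ, hN χ, hN' χ, hmN χ, hmN' χ, hk χ, ?_, ?_⟩
    · rw [hT', hTd]; simp only [if_pos hχ]; ring
    · have := hsix χ hχ
      rw [hT', hTd]; simp only [if_pos hχ]; omega
  · show P v0 = _
    linear_combination (hE1 + 4 * hE5) / 5
  · show P v1 = _
    linear_combination (hE1 - hE5) / 5

end Setting

end Cfsg.Agent.Char.JankoOne
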