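import Cfsg.Agent.Lib.Char.Galois
import Cfsg.Agent.Lib.Char.Basic

/-!
Integral coordinates of character values at an element of order ten.
-/

open scoped ComplexConjugate

set_option autoImplicit false
set_option linter.unusedSectionVars false
set_option linter.style.haveILetI false

namespace Cfsg.Agent.Char.JankoOne

open Cfsg

/-- A primitive fifth root of unity. -/
noncomputable def om : ℂ := Complex.exp (2 * Real.pi * Complex.I / 5)

theorem om_prim : IsPrimitiveRoot om 5 := by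
  have h := Complex.isPrimitiveRoot_exp 5 (by norm_num)
  simpa [om] using h

/-- The first real period. -/
noncomputable def W : ℂ := om + om ^ 4

theorem om_five : om ^ 5 = 1 := om_prim.pow_eq_one

theorem om_sum : 1 + om + om ^ 2 + om ^ 3 + om ^ 4 = 0 := by
  have h := om_prim.geom_sum_eq_zero (by norm_num)
  simpa [Finset.sum_range_succ] using h

theorem W_two : om ^ 2 + om ^ 3 = -1 - W := by
  rw [W]; linear_combination om_sum

theorem W_sq : W * W = 1 - W := by
  rw [W]
  linear_combination (2 + om ^ 3) * om_five + om_sum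

theorem W_conj : conj W = W := by
  have h : conj om = om ^ 4 := by
    rw [← Complex.inv_eq_conj (om_prim.norm'_eq_one (by norm_num))]
    refine inv_eq_of_mul_eq_one_right ?_
    rw [← pow_succ']
    exact om_five
  rw [W, map_add, map_pow, h, ← pow_mul, show 4 * 4 = 5 * 3 + 1 by norm_num, pow_add, pow_mul,
    om_five]
  ring

/-- Integers are separated by the period. -/
theorem W_sep {a b : ℤ} (h : (a : ℂ) + b * W = 0) : a = 0 ∧ b = 0 := by
  have hsq : (2 * a - b) * (2 * a - b) = 5 * (b * b) := by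
    have : ((2 * a - b : ℤ) : ℂ) * ((2 * a - b : ℤ) : ℂ) = ((5 * (b * b) : ℤ) : ℂ) := by
      push_cast
      have h' : (a : ℂ) = -(b * W) := by linear_combination h
      rw [h']
      linear_combination (4 * (b : ℂ) * b) * W_sq
    exact_mod_cast this
  have hb : b = 0 := by
    by_contra hb
    have hir : Irrational (Real.sqrt 5) := by
      simpa using Nat.Prime.irrational_sqrt (p := 5) (by norm_num)
    refine hir ⟨|((2 * a - b : ℤ) : ℚ) / b|, ?_⟩
    symm
    rw [Rat.cast_abs, Rat.cast_div, Rat.cast_intCast, Rat.cast_intCast]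
    have hbR : (b : ℝ) ≠ 0 := by exact_mod_cast hb
    have h5 : (((2 * a - b : ℤ) : ℝ) / b) * (((2 * a - b : ℤ) : ℝ) / b) = 5 := by
      rw [div_mul_div_comm, div_eq_iff (mul_ne_zero hbR hbR)]
      exact_mod_cast hsq
    rw [← Real.sqrt_mul_self (abs_nonneg (((2 * a - b : ℤ) : ℝ) / (b : ℝ))), abs_mul_abs_self, h5]
  refine ⟨?_, hb⟩
  rw [hb] at h
  simpa using h

theorem W_ext {a b a' b' : ℤ} (h : (a : ℂ) + b * W = a' + b' * W) : a = a' ∧ b = b' := by
  obtain ⟨h1, h2⟩ := W_sep (a := a - a') (b := b - b') (by push_cast; linear_combination h)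
  exact ⟨by linarith, by linarith⟩

theorem om_pow_mod {k : ℕ} : om ^ k = om ^ (k % 5) := by
  conv_lhs => rw [← Nat.mod_add_div k 5]
  rw [pow_add, pow_mul, om_five, one_pow, mul_one]

universe u

variable {G : Type u} [Group G] [Finite G]

/-- The coordinates of the values at an element of order ten conjugate to its inverse. -/
theorem five_coords {χ : G → ℂ} (hχ : IsCharacter G χ) {h : G} (h10 : h ^ 10 = 1)
    (hreal : χ h⁻¹ = χ h) :
    ∃ v0 v1 v2 : ℤ, χ (h ^ 5) = v0 + 2 * v1 + 2 * v2 ∧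
      χ h = ((v0 - v2 : ℤ) : ℂ) + ((v1 - v2 : ℤ) : ℂ) * W ∧
      χ (h ^ 7) = ((v0 - v1 : ℤ) : ℂ) + ((v2 - v1 : ℤ) : ℂ) * W := by
  classical
  obtain ⟨d, ρ, rfl⟩ := hχ
  obtain ⟨b, c, -, hc, hk⟩ := exists_rep_eigenbasis ρ h
  have hc10 : ∀ i, c i ^ 10 = 1 := fun i => by
    obtain ⟨m, hm⟩ := orderOf_dvd_of_pow_eq_one h10
    rw [hm, pow_mul, hc i, one_pow]
  have hs : ∀ i, ∃ s : ℤ, (s = 1 ∨ s = -1) ∧ c i ^ 5 = s := by
    intro i
    have : (c i ^ 5) ^ 2 = 1 := by rw [← pow_mul]; exact hc10 i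
    rcases sq_eq_one_iff.1 this with h' | h'
    · exact ⟨1, Or.inl rfl, by simpa using h'⟩
    · exact ⟨-1, Or.inr rfl, by simpa using h'⟩
  choose s hs1 hs5 using hs
  have hz : ∀ i, ∃ j : Fin 5, c i ^ 6 = om ^ (j : ℕ) := by
    intro i
    haveI : NeZero (5 : ℕ) := ⟨by norm_num⟩
    obtain ⟨j, hj, hj'⟩ := om_prim.eq_pow_of_pow_eq_one (ξ := c i ^ 6)
      (by rw [← pow_mul, show 6 * 5 = 10 * 3 by norm_num, pow_mul, hc10, one_pow])
    exact ⟨⟨j, hj⟩, hj'.symm⟩
  choose j hj using hz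
  set n : Fin 5 → ℤ := fun l => ∑ i ∈ Finset.univ.filter (fun i => j i = l), s i with hn
  have hci : ∀ (i) (k : ℕ), c i ^ k = (s i : ℂ) ^ k * om ^ ((j i : ℕ) * k) := by
    intro i k
    rw [pow_mul, ← hj i, ← hs5 i, ← mul_pow, ← pow_add, show 5 + 6 = 10 + 1 by norm_num, pow_succ,
      hc10, one_mul]
  have hsodd : ∀ (i) (k : ℕ), Odd k → (s i : ℂ) ^ k = s i := by
    intro i k hk'
    rcases hs1 i with h' | h'
    · simp [h']
    · rw [h', Int.cast_neg, Int.cast_one, hk'.neg_one_pow]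
  have hval : ∀ k : ℕ, Odd k →
      ρ.character (h ^ k) = ∑ l : Fin 5, (n l : ℂ) * om ^ ((l : ℕ) * k) := by
    intro k hk'
    rw [hk k, Finset.sum_congr rfl fun i _ => by rw [hci i k, hsodd i k hk'],
      ← Finset.sum_fiberwise Finset.univ j]
    refine Finset.sum_congr rfl fun l _ => ?_
    rw [hn]
    push_cast
    rw [Finset.sum_mul]
    exact Finset.sum_congr rfl fun i hi => by rw [(Finset.mem_filter.1 hi).2]
  have h1 := hval 1 (by decide)
  have h9 := hval 9 (by decide)
  have h5 := hval 5 (by decide)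
  have h7 := hval 7 (by decide)
  rw [pow_one] at h1
  rw [show h ^ 9 = h⁻¹ from eq_inv_of_mul_eq_one_left (by rw [← pow_succ]; exact h10), hreal, h1] at h9
  simp only [Fin.sum_univ_five, Fin.val_zero, Fin.val_one, Fin.val_two,
    show ((3 : Fin 5) : ℕ) = 3 from rfl, show ((4 : Fin 5) : ℕ) = 4 from rfl] at h1 h9 h5 h7
  norm_num at h1 h9 h5 h7
  simp only [om_pow_mod (k := 9), om_pow_mod (k := 18), om_pow_mod (k := 27), om_pow_mod (k := 36),
    om_pow_mod (k := 7), om_pow_mod (k := 14), om_pow_mod (k := 21), om_pow_mod (k := 28),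
    om_pow_mod (k := 5), om_pow_mod (k := 10), om_pow_mod (k := 15), om_pow_mod (k := 20)] at h5 h7 h9
  norm_num at h5 h7 h9
  have hsym : n 1 = n 4 ∧ n 2 = n 3 := by
    have hne : om - om ^ 4 ≠ 0 := by
      intro h0
      have := om_prim.pow_inj (i := 1) (j := 4) (by norm_num) (by norm_num)
        (by rw [pow_one]; linear_combination h0)
      norm_num at this
    have : (((n 1 - n 4 : ℤ) : ℂ) + ((n 2 - n 3 : ℤ) : ℂ) * W) * (om - om ^ 4) = 0 := by
      rw [W]
      push_cast
      linear_combination h9 - ((n 2 : ℂ) - n 3) * om ^ 3 * om_five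
    obtain ⟨e1, e2⟩ := W_sep ((mul_eq_zero.1 this).resolve_right hne)
    exact ⟨by linarith, by linarith⟩
  refine ⟨n 0, n 1, n 2, ?_, ?_, ?_⟩
  · rw [h5, ← hsym.1, ← hsym.2]
    ring
  · rw [h1, ← hsym.1, ← hsym.2, W]
    push_cast
    linear_combination (n 2 : ℂ) * om_sum
  · rw [h7, ← hsym.1, ← hsym.2, W]
    push_cast
    linear_combination (n 1 : ℂ) * om_sum

end Cfsg.Agent.Char.JankoOne
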