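import Cfsg.Agent.Lib.Char.JankoOne.Degrees
import Cfsg.Agent.Lib.Char.JankoOne.ArithMain
import Cfsg.Agent.Lib.Char.JankoOne.ArithTwo

/-!
The order of a simple group with an involution centralizer `2 × A₅`.
-/

set_option autoImplicit false
set_option linter.unusedSectionVars false
set_option linter.style.haveILetI false

namespace Cfsg.Agent.Char.JankoOne

open Cfsg Cfsg.Agent.Block

universe u

variable {G : Type u} [Group G] [Finite G] {M : Ideal AlgInt} {S : Setting G}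
  {τ : IrrCharacter G → IrrCharacter G} {v0 v1 v2 x T : IrrCharacter G → ℤ}

namespace BlockData

theorem adm (H : BlockData S M τ v0 v1 v2 x T) {χ : IrrCharacter G}
    (hχ : χ ∈ Setting.B (G := G) M) (hne : χ ≠ trivialIrr G) {ε p q r : ℤ}
    (hrow : IsRow v0 v1 v2 χ ε p q r) {t : ℤ} (ht : t = p + 2 * q + 2 * r) (h0 : 0 ≤ t)
    (h8 : t < 8) : Adm t (ε * x χ) := by
  obtain ⟨hε, e0, e1, e2⟩ := hrow
  obtain ⟨hpos, hlt⟩ := H.bound χ hχ hne
  obtain ⟨N, m, k, N', m', hN, -⟩ := H.split χ hχ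
  rcases hε with rfl | rfl <;> unfold Adm <;> simp only [e0, e1, e2] at hN hlt <;> omega

theorem term_value (H : BlockData S M τ v0 v1 v2 x T) {χ : IrrCharacter G}
    {ε p q r : ℤ} (hrow : IsRow v0 v1 v2 χ ε p q r) :
    (((v0 χ + 2 * v1 χ + 2 * v2 χ : ℤ) : ℂ) ^ 2 / (x χ : ℂ) * (v0 χ : ℂ) =
      ((p + 2 * q + 2 * r : ℤ) : ℂ) ^ 2 * p / ((ε * x χ : ℤ) : ℂ)) ∧
    (((v0 χ + 2 * v1 χ + 2 * v2 χ : ℤ) : ℂ) ^ 2 / (x χ : ℂ) * (v1 χ : ℂ) =
      ((p + 2 * q + 2 * r : ℤ) : ℂ) ^ 2 * q / ((ε * x χ : ℤ) : ℂ)) := by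
  obtain ⟨hε, e0, e1, e2⟩ := hrow
  rw [e0, e1, e2]
  rcases hε with rfl | rfl <;> constructor <;> push_cast <;> ring

theorem row_swap (H : BlockData S M τ v0 v1 v2 x T) {χ : IrrCharacter G}
    (hχ : χ ∈ Setting.B (G := G) M) {ε p q r : ℤ} (hrow : IsRow v0 v1 v2 χ ε p q r) :
    IsRow v0 v1 v2 (τ χ) ε p r q := by
  obtain ⟨hε, e0, e1, e2⟩ := hrow
  obtain ⟨-, f0, f1, f2⟩ := H.gram.mem χ hχ
  exact ⟨hε, by rw [f0, e0], by rw [f1, e2], by rw [f2, e1]⟩

theorem row_trivial (H : BlockData S M τ v0 v1 v2 x T) :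
    IsRow v0 v1 v2 (trivialIrr G) 1 1 0 0 := by
  obtain ⟨a, b, c⟩ := H.gram.r0
  exact ⟨Or.inl rfl, by rw [a]; norm_num, by rw [b]; norm_num, by rw [c]; norm_num⟩

theorem ne_trivial (H : BlockData S M τ v0 v1 v2 x T) {χ : IrrCharacter G} {ε p q r : ℤ}
    (hrow : IsRow v0 v1 v2 χ ε p q r) (hq : q ≠ 0) : χ ≠ trivialIrr G := by
  rintro rfl
  obtain ⟨hε, -, e1, -⟩ := hrow
  rw [H.gram.r0.2.1] at e1
  rcases hε with rfl | rfl <;> omega

theorem three_value (H : BlockData S M τ v0 v1 v2 x T) {χ : IrrCharacter G}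
    (hχ : χ ∈ Setting.B (G := G) M) {ε p q r : ℤ} (hrow : IsRow v0 v1 v2 χ ε p q r) :
    (p = 1 ∧ q = 1 ∧ r = 1 ∧ ε * x χ = 21 → T χ = 3 ∧ ε = 1) ∧
    (p = 1 ∧ q = 1 ∧ r = 1 ∧ ε * x χ = -35 → T χ = -1 ∧ ε = -1) ∧
    (p = 1 ∧ q = 1 ∧ r = 0 ∧ ε * x χ = -21 → T χ = 0 ∧ ε = -1) ∧
    (p = 1 ∧ q = 1 ∧ r = 0 ∧ ε * x χ = 35 → ε = 1) ∧
    (p = 1 ∧ q = 0 ∧ r = 0 ∧ ε * x χ = -15 → T χ = 3 ∧ ε = -1) := by
  obtain ⟨hε, e0, e1, e2⟩ := hrow
  obtain ⟨N, m, k, N', m', hN, hN', hm, hm', hk, hP, hQ⟩ := H.split χ hχ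
  refine ⟨?_, ?_, ?_, ?_, ?_⟩ <;> rintro ⟨rfl, rfl, rfl, hX⟩ <;>
    rcases hε with rfl | rfl <;> simp only [e0, e1, e2] at hN hN' hk hP hQ <;> omega

theorem order_eq (H : BlockData S M τ v0 v1 v2 x T) : Nat.card G = 175560 := by
  classical
  have hg0 : (Nat.card G : ℂ) ≠ 0 := Nat.cast_ne_zero.2 Nat.card_pos.ne'
  set B := Setting.B (G := G) M with hB
  have hvan : ∀ w : IrrCharacter G → ℤ, (∀ χ ∈ B, v0 χ = 0 → v1 χ = 0 → v2 χ = 0 →
      ((v0 χ * w χ : ℤ) : ℂ) = 0 ∧ ((v1 χ * w χ : ℤ) : ℂ) = 0) :=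
    fun w χ _ a b _ => by rw [a, b]; simp
  have hvanp : ∀ χ ∈ B, v0 χ = 0 → v1 χ = 0 → v2 χ = 0 →
      ((v0 χ + 2 * v1 χ + 2 * v2 χ : ℤ) : ℂ) ^ 2 / (x χ : ℂ) * (v0 χ : ℂ) = 0 ∧
      ((v0 χ + 2 * v1 χ + 2 * v2 χ : ℤ) : ℂ) ^ 2 / (x χ : ℂ) * (v1 χ : ℂ) = 0 :=
    fun χ _ a b _ => by rw [a, b]; simp
  have hrt := H.row_trivial
  obtain ⟨ht0, ht1, -⟩ := H.gram.r0
  rcases H.gram.cases with ⟨a, b, c, d, e, ra, rb, rc, rd, re, hS⟩ | ⟨a, c, e, f, ra, rc, re, rf, hX⟩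
  · obtain ⟨ha, hra⟩ := hS.ha
    obtain ⟨hb, hrb⟩ := hS.hb
    obtain ⟨hc, hrc⟩ := hS.hc
    obtain ⟨hd, hrd⟩ := hS.hd
    obtain ⟨he, hne, hre⟩ := hS.he
    have hrc' := H.row_swap hc hrc
    have hrd' := H.row_swap hd hrd
    have hA := H.adm ha (H.ne_trivial hra one_ne_zero) hra (t := 5) (by norm_num) (by norm_num) (by norm_num)
    have hBd := H.adm hb (H.ne_trivial hrb one_ne_zero) hrb (t := 5) (by norm_num) (by norm_num) (by norm_num)
    have hC := H.adm hc (H.ne_trivial hrc one_ne_zero) hrc (t := 3) (by norm_num) (by norm_num) (by norm_num)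
    have hD := H.adm hd (H.ne_trivial hrd one_ne_zero) hrd (t := 3) (by norm_num) (by norm_num) (by norm_num)
    have hE := H.adm he hne hre (t := 1) (by norm_num) (by norm_num) (by norm_num)
    have hlin : ∀ w : IrrCharacter G → ℤ, w (trivialIrr G) = 1 → (∀ χ, w (τ χ) = w χ) →
        ∑ χ ∈ B, v0 χ * w χ = 0 → ∑ χ ∈ B, v1 χ * w χ = 0 →
        1 + ra * w a + rb * w b + 2 * (rc * w c) + 2 * (rd * w d) + re * w e = 0 ∧
        ra * w a + rb * w b + rc * w c + rd * w d = 0 := by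
      intro w w1 wτ h0 h1
      have c0 := hS.sum (fun χ => ((v0 χ * w χ : ℤ) : ℂ)) (fun χ hχ p q r => (hvan w χ hχ p q r).1)
      have c1 := hS.sum (fun χ => ((v1 χ * w χ : ℤ) : ℂ)) (fun χ hχ p q r => (hvan w χ hχ p q r).2)
      rw [← Int.cast_sum, h0, Int.cast_zero, ht0, w1, wτ, wτ, hra.2.1, hrb.2.1, hrc.2.1, hrc'.2.1,
        hrd.2.1, hrd'.2.1, hre.2.1] at c0
      rw [← Int.cast_sum, h1, Int.cast_zero, ht1, w1, wτ, wτ, hra.2.2.1, hrb.2.2.1, hrc.2.2.1,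
        hrc'.2.2.1, hrd.2.2.1, hrd'.2.2.1, hre.2.2.1] at c1
      constructor
      · have : ((0 : ℤ) : ℂ) = ((1 + ra * w a + rb * w b + 2 * (rc * w c) + 2 * (rd * w d) +
            re * w e : ℤ) : ℂ) := by push_cast at c0 ⊢; linear_combination c0
        exact_mod_cast this.symm
      · have : ((0 : ℤ) : ℂ) = ((ra * w a + rb * w b + rc * w c + rd * w d : ℤ) : ℂ) := by
          push_cast at c1 ⊢; linear_combination c1
        exact_mod_cast this.symm
    obtain ⟨hd0, hd1⟩ := hlin x H.one.1 (fun χ => (H.inv χ).1) H.deg0 H.deg1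
    obtain ⟨ht3, ht4⟩ := hlin T H.one.2 (fun χ => (H.inv χ).2) H.three0 H.three1
    have p0 := hS.sum _ (fun χ hχ p q r => (hvanp χ hχ p q r).1)
    have p1 := hS.sum _ (fun χ hχ p q r => (hvanp χ hχ p q r).2)
    rw [H.prod0, (H.term_value hrt).1, H.one.1, (H.term_value hra).1, (H.term_value hrb).1,
      (H.term_value hrc).1, (H.term_value hrc').1, (H.term_value hrd).1, (H.term_value hrd').1,
      (H.term_value hre).1, (H.inv c).1, (H.inv d).1] at p0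
    rw [H.prod1, (H.term_value hrt).2, H.one.1, (H.term_value hra).2, (H.term_value hrb).2,
      (H.term_value hrc).2, (H.term_value hrc').2, (H.term_value hrd).2, (H.term_value hrd').2,
      (H.term_value hre).2, (H.inv c).1, (H.inv d).1] at p1
    rw [div_eq_iff hg0] at p0 p1
    set A := ra * x a with hAe
    set Bv := rb * x b with hBe
    set C := rc * x c with hCe
    set D := rd * x d with hDe
    set E := re * x e with hEe
    have q0 : ((((Nat.card G : ℕ) : ℚ) * (1 + 25 / A + 25 / Bv + 18 / C + 18 / D + 1 / E) : ℚ) : ℂ) =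
        ((14 * 14400 : ℚ) : ℂ) := by
      push_cast at p0 ⊢
      ring_nf at p0 ⊢
      linear_combination -p0
    have q1 : ((((Nat.card G : ℕ) : ℚ) * (25 / A + 25 / Bv + 9 / C + 9 / D) : ℚ) : ℂ) =
        ((4 * 14400 : ℚ) : ℂ) := by
      push_cast at p1 ⊢
      ring_nf at p1 ⊢
      linear_combination -p1
    rcases standard_solution hA hBd hC hD hE (by omega) (by omega) (Nat.card G)
      (Rat.cast_injective q0) (Rat.cast_injective q1) with h | ⟨hAB, hCD⟩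
    · exact h
    · exfalso
      have hE15 : E = -15 := by omega
      obtain ⟨Te, re1⟩ := (H.three_value he hre).2.2.2.2 ⟨rfl, rfl, rfl, hE15⟩
      subst re1
      rw [Te] at ht3
      rcases hAB with ⟨hA1, hB1⟩ | ⟨hA1, hB1⟩
      · obtain ⟨Ta, ra1⟩ := (H.three_value ha hra).1 ⟨rfl, rfl, rfl, hA1⟩
        obtain ⟨Tb, rb1⟩ := (H.three_value hb hrb).2.1 ⟨rfl, rfl, rfl, hB1⟩
        rw [Ta, Tb, ra1, rb1] at ht3 ht4
        omega
      · obtain ⟨Ta, ra1⟩ := (H.three_value ha hra).2.1 ⟨rfl, rfl, rfl, hA1⟩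
        obtain ⟨Tb, rb1⟩ := (H.three_value hb hrb).1 ⟨rfl, rfl, rfl, hB1⟩
        rw [Ta, Tb, ra1, rb1] at ht3 ht4
        omega
  · obtain ⟨ha, hra⟩ := hX.ha
    obtain ⟨hc, hrc⟩ := hX.hc
    obtain ⟨he, hre⟩ := hX.he
    obtain ⟨hf, hrf⟩ := hX.hf
    have hra' := H.row_swap ha hra
    have hrc' := H.row_swap hc hrc
    have hA := H.adm ha (H.ne_trivial hra one_ne_zero) hra (t := 2) (by norm_num) (by norm_num) (by norm_num)
    have hC := H.adm hc (H.ne_trivial hrc one_ne_zero) hrc (t := 3) (by norm_num) (by norm_num) (by norm_num)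
    have hE := H.adm he (H.ne_trivial hre one_ne_zero) hre (t := 5) (by norm_num) (by norm_num) (by norm_num)
    have hF := H.adm hf (H.ne_trivial hrf one_ne_zero) hrf (t := 6) (by norm_num) (by norm_num) (by norm_num)
    have c0 := hX.sum (fun χ => ((v0 χ * x χ : ℤ) : ℂ)) (fun χ hχ p q r => (hvan x χ hχ p q r).1)
    have c1 := hX.sum (fun χ => ((v1 χ * x χ : ℤ) : ℂ)) (fun χ hχ p q r => (hvan x χ hχ p q r).2)
    rw [← Int.cast_sum, H.deg0, Int.cast_zero, ht0, H.one.1, (H.inv a).1, (H.inv c).1, hra.2.1,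
      hra'.2.1, hrc.2.1, hrc'.2.1, hre.2.1, hrf.2.1] at c0
    rw [← Int.cast_sum, H.deg1, Int.cast_zero, ht1, H.one.1, (H.inv a).1, (H.inv c).1, hra.2.2.1,
      hra'.2.2.1, hrc.2.2.1, hrc'.2.2.1, hre.2.2.1, hrf.2.2.1] at c1
    have p0 := hX.sum _ (fun χ hχ p q r => (hvanp χ hχ p q r).1)
    have p1 := hX.sum _ (fun χ hχ p q r => (hvanp χ hχ p q r).2)
    rw [H.prod0, (H.term_value hrt).1, H.one.1, (H.term_value hra).1, (H.term_value hra').1,
      (H.term_value hrc).1, (H.term_value hrc').1, (H.term_value hre).1, (H.term_value hrf).1,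
      (H.inv a).1, (H.inv c).1] at p0
    rw [H.prod1, (H.term_value hrt).2, H.one.1, (H.term_value hra).2, (H.term_value hra').2,
      (H.term_value hrc).2, (H.term_value hrc').2, (H.term_value hre).2, (H.term_value hrf).2,
      (H.inv a).1, (H.inv c).1] at p1
    rw [div_eq_iff hg0] at p0 p1
    have d0 : 1 + 2 * (rc * x c) + re * x e + 2 * (rf * x f) = 0 := by
      have : ((0 : ℤ) : ℂ) = ((1 + 2 * (rc * x c) + re * x e + 2 * (rf * x f) : ℤ) : ℂ) := by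
        push_cast at c0 ⊢; linear_combination c0
      exact_mod_cast this.symm
    have d1 : ra * x a + rc * x c + re * x e + rf * x f = 0 := by
      have : ((0 : ℤ) : ℂ) = ((ra * x a + rc * x c + re * x e + rf * x f : ℤ) : ℂ) := by
        push_cast at c1 ⊢; linear_combination c1
      exact_mod_cast this.symm
    set A := ra * x a with hAe
    set C := rc * x c with hCe
    set E := re * x e with hEe
    set F := rf * x f with hFe
    have q0 : ((((Nat.card G : ℕ) : ℚ) * (1 + 18 / C + 25 / E + 72 / F) : ℚ) : ℂ) =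
        ((14 * 14400 : ℚ) : ℂ) := by
      push_cast at p0 ⊢
      ring_nf at p0 ⊢
      linear_combination -p0
    have q1 : ((((Nat.card G : ℕ) : ℚ) * (4 / A + 9 / C + 25 / E + 36 / F) : ℚ) : ℂ) =
        ((4 * 14400 : ℚ) : ℂ) := by
      push_cast at p1 ⊢
      ring_nf at p1 ⊢
      linear_combination -p1
    exact (no_exceptional hA hC hE hF d0 d1 (Nat.card G) (Rat.cast_injective q0)
      (Rat.cast_injective q1)).elim

end BlockData

/-- A simple group with a 2-central involution centralizer `2 × A₅` has order 175560. -/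
theorem card_eq [IsSimpleGroup G] (t : G) (ht : Cfsg.IsTwoCentralInvolution t)
    (e : Subgroup.centralizer ({t} : Set G) ≃* Model) : Nat.card G = 175560 := by
  obtain ⟨M, hM⟩ := Cfsg.Agent.Char.exists_isPModular 2 Nat.prime_two
  obtain ⟨S, -⟩ := nonempty_setting t ht e
  obtain ⟨τ, v0, v1, v2, x, T, H⟩ := S.exists_data hM
  exact H.order_eq

end Cfsg.Agent.Char.JankoOne
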