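import Mathlib

/-!
Computations in the group `2 × A₅`.
-/

set_option autoImplicit false

namespace Cfsg.Agent.Char.JankoOne

/-- The alternating group of degree five. -/
abbrev A5 : Type := alternatingGroup (Fin 5)

/-- The model `2 × A₅`. -/
abbrev Model : Type := Multiplicative (ZMod 2) × A5

/-- The central involution. -/
def tt : Model := (Multiplicative.ofAdd 1, 1)

/-- A five cycle. -/
def f5 : A5 := ⟨finRotate 5, by rw [Equiv.Perm.mem_alternatingGroup]; decide +kernel⟩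

/-- A three cycle. -/
def y3 : A5 := ⟨Equiv.swap 0 1 * Equiv.swap 1 2, by rw [Equiv.Perm.mem_alternatingGroup]; decide +kernel⟩

/-- A double transposition. -/
def uu : A5 := ⟨Equiv.swap 0 1 * Equiv.swap 2 3, by rw [Equiv.Perm.mem_alternatingGroup]; decide +kernel⟩

/-- The number of fixed points. -/
def fix (a : A5) : ℕ := (Finset.univ.filter fun i : Fin 5 => (a : Equiv.Perm (Fin 5)) i = i).card

/-- The character of degree four. -/
def psi (a : A5) : ℤ := (fix a : ℤ) - 1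

/-- The sign of the central component. -/
def sgn (a : Model) : ℤ := if a.1 = 1 then 1 else -1

theorem card_model : Fintype.card Model = 120 := by decide +kernel

theorem card_A5 : Fintype.card A5 = 60 := by decide +kernel

theorem pow_thirty : ∀ a : Model, a ^ 30 = 1 := by decide +kernel

theorem tt_ne : tt ≠ 1 := by decide +kernel

theorem tt_sq : tt * tt = 1 := by decide +kernel

theorem tt_central : ∀ a : Model, a * tt = tt * a := by decide +kernel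

theorem psi_values : ∀ a : A5,
    (a = 1 ∧ psi a = 4) ∨ (a * a = 1 ∧ a ≠ 1 ∧ psi a = 0) ∨
      (a ^ 3 = 1 ∧ a ≠ 1 ∧ psi a = 1) ∨ (a ^ 5 = 1 ∧ a ≠ 1 ∧ psi a = -1) := by decide +kernel

/-- The class of an element of odd order. -/
theorem odd_classes : ∀ a : Model, a ^ 15 = 1 →
    a.1 = 1 ∧ (a.2 = 1 ∨ (∃ x : A5, x * y3 * x⁻¹ = a.2) ∨ (∃ x : A5, x * f5 * x⁻¹ = a.2) ∨
      ∃ x : A5, x * (f5 * f5) * x⁻¹ = a.2) := by decide +kernel

/-- The class of an involution. -/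
theorem involution_classes : ∀ a : Model, a * a = 1 → a ≠ 1 →
    a = tt ∨ (∃ x : Model, x * (1, uu) * x⁻¹ = a) ∨ ∃ x : Model, x * (tt * (1, uu)) * x⁻¹ = a := by
  decide +kernel

theorem f5_inv_conj : ∃ x : A5, x * f5 * x⁻¹ = f5⁻¹ := by decide +kernel

theorem f5_four_conj : ∃ x : A5, x * f5 * x⁻¹ = f5 * f5 * (f5 * f5) := by decide +kernel

theorem f5_sq_not_conj : ∀ x : Model, x * (1, f5) * x⁻¹ ≠ (1, f5 * f5) := by decide +kernel

theorem one_not_conj_f5 : ∀ x : Model, x * (1, f5) * x⁻¹ ≠ 1 := by decide +kernel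

theorem one_not_conj_y3 : ∀ x : Model, x * (1, y3) * x⁻¹ ≠ 1 := by decide +kernel

theorem f5_not_conj_y3 : ∀ x : Model, x * (1, y3) * x⁻¹ ≠ (1, f5) := by decide +kernel

theorem f5_sq_not_conj_y3 : ∀ x : Model, x * (1, y3) * x⁻¹ ≠ (1, f5 * f5) := by decide +kernel

theorem cent_f5 : (Finset.univ.filter fun x : Model => x * (1, f5) = (1, f5) * x).card = 10 := by
  decide +kernel

theorem cent_f5_sq :
    (Finset.univ.filter fun x : Model => x * (1, f5 * f5) = (1, f5 * f5) * x).card = 10 := by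
  decide +kernel

theorem cent_y3 : (Finset.univ.filter fun x : Model => x * (1, y3) = (1, y3) * x).card = 6 := by
  decide +kernel

theorem cent_uu : ∀ z : Multiplicative (ZMod 2),
    (Finset.univ.filter fun x : Model => x * (z, uu) = (z, uu) * x).card = 8 ∧
    ∀ x : Model, x * (z, uu) = (z, uu) * x → x * x = 1 := by decide +kernel

theorem class_y3 : (Finset.univ.filter fun a : A5 => fix a = 2).card = 20 := by decide +kernel

theorem class_y3_index : (Finset.univ.filter fun a : Model => a.1 = 1 ∧ fix a.2 = 2).card = 20 := by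
  decide +kernel

/-- The number of pairs of involutions with product `a * tt`. -/
def pairs (a : Model) : ℕ :=
  (Finset.univ.filter fun T : Model =>
    T * T = 1 ∧ T ≠ 1 ∧ T * (tt * a) * (T * (tt * a)) = 1 ∧ T * (tt * a) ≠ 1).card

theorem pairs_one : pairs 1 = 30 := by decide +kernel

theorem pairs_y3 : pairs (1, y3) = 6 := by decide +kernel

theorem pairs_f5 : pairs (1, f5) = 10 := by decide +kernel

theorem pairs_f5_sq : pairs (1, f5 * f5) = 10 := by decide +kernel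

theorem f5_pow_five : f5 ^ 5 = 1 := by decide +kernel

theorem f5_ne : f5 ≠ 1 := by decide +kernel

theorem y3_pow_three : y3 ^ 3 = 1 := by decide +kernel

theorem y3_inv_conj : ∃ x : A5, x * y3 * x⁻¹ = y3⁻¹ := by decide +kernel

/-- The Klein four group. -/
def V4 : Subgroup A5 where
  carrier := {a | (a : Equiv.Perm (Fin 5)) 4 = 4 ∧ a * a = 1}
  one_mem' := by decide +kernel
  mul_mem' {a b} := (show ∀ a b : A5, (a : Equiv.Perm (Fin 5)) 4 = 4 ∧ a * a = 1 →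
    (b : Equiv.Perm (Fin 5)) 4 = 4 ∧ b * b = 1 →
    ((a * b : A5) : Equiv.Perm (Fin 5)) 4 = 4 ∧ a * b * (a * b) = 1 by decide +kernel) a b
  inv_mem' {a} := (show ∀ a : A5, (a : Equiv.Perm (Fin 5)) 4 = 4 ∧ a * a = 1 →
    ((a⁻¹ : A5) : Equiv.Perm (Fin 5)) 4 = 4 ∧ a⁻¹ * a⁻¹ = 1 by decide +kernel) a

/-- The alternating group on four points. -/
def A4 : Subgroup A5 where
  carrier := {a | (a : Equiv.Perm (Fin 5)) 4 = 4}
  one_mem' := by decide +kernel
  mul_mem' {a b} := (show ∀ a b : A5, (a : Equiv.Perm (Fin 5)) 4 = 4 →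
    (b : Equiv.Perm (Fin 5)) 4 = 4 → ((a * b : A5) : Equiv.Perm (Fin 5)) 4 = 4 by
      decide +kernel) a b
  inv_mem' {a} := (show ∀ a : A5, (a : Equiv.Perm (Fin 5)) 4 = 4 →
    ((a⁻¹ : A5) : Equiv.Perm (Fin 5)) 4 = 4 by decide +kernel) a

/-- The symmetric group on three points. -/
def S3 : Subgroup A5 where
  carrier := {a | 3 ≤ ((a : Equiv.Perm (Fin 5)) 3 : ℕ) ∧ 3 ≤ ((a : Equiv.Perm (Fin 5)) 4 : ℕ)}
  one_mem' := by decide +kernel
  mul_mem' {a b} := (show ∀ a b : A5,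
    3 ≤ ((a : Equiv.Perm (Fin 5)) 3 : ℕ) ∧ 3 ≤ ((a : Equiv.Perm (Fin 5)) 4 : ℕ) →
    3 ≤ ((b : Equiv.Perm (Fin 5)) 3 : ℕ) ∧ 3 ≤ ((b : Equiv.Perm (Fin 5)) 4 : ℕ) →
    3 ≤ (((a * b : A5) : Equiv.Perm (Fin 5)) 3 : ℕ) ∧
      3 ≤ (((a * b : A5) : Equiv.Perm (Fin 5)) 4 : ℕ) by decide +kernel) a b
  inv_mem' {a} := (show ∀ a : A5,
    3 ≤ ((a : Equiv.Perm (Fin 5)) 3 : ℕ) ∧ 3 ≤ ((a : Equiv.Perm (Fin 5)) 4 : ℕ) →
    3 ≤ (((a⁻¹ : A5) : Equiv.Perm (Fin 5)) 3 : ℕ) ∧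
      3 ≤ (((a⁻¹ : A5) : Equiv.Perm (Fin 5)) 4 : ℕ) by decide +kernel) a

theorem A4_mem {a : A5} : a ∈ A4 ↔ (a : Equiv.Perm (Fin 5)) 4 = 4 := Iff.rfl

theorem V4_mem {a : A5} : a ∈ V4 ↔ (a : Equiv.Perm (Fin 5)) 4 = 4 ∧ a * a = 1 := Iff.rfl

theorem S3_mem {a : A5} : a ∈ S3 ↔
    3 ≤ ((a : Equiv.Perm (Fin 5)) 3 : ℕ) ∧ 3 ≤ ((a : Equiv.Perm (Fin 5)) 4 : ℕ) := Iff.rfl

theorem V4_le : V4 ≤ A4 := fun _ h => h.1

theorem V4_count : (Finset.univ.filter fun a : A5 =>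
      (a : Equiv.Perm (Fin 5)) 4 = 4 ∧ a * a = 1).card = 4 := by decide +kernel

theorem A4_count : (Finset.univ.filter fun a : A5 => (a : Equiv.Perm (Fin 5)) 4 = 4).card = 12 ∧
    (Finset.univ.filter fun a : A5 =>
      (a : Equiv.Perm (Fin 5)) 4 = 4 ∧ fix a = 1).card = 3 ∧
    (Finset.univ.filter fun a : A5 =>
      (a : Equiv.Perm (Fin 5)) 4 = 4 ∧ fix a = 2).card = 8 := by decide +kernel

theorem S3_count : (Finset.univ.filter fun a : A5 =>
      3 ≤ ((a : Equiv.Perm (Fin 5)) 3 : ℕ) ∧ 3 ≤ ((a : Equiv.Perm (Fin 5)) 4 : ℕ)).card = 6 ∧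
    (Finset.univ.filter fun a : A5 =>
      (3 ≤ ((a : Equiv.Perm (Fin 5)) 3 : ℕ) ∧ 3 ≤ ((a : Equiv.Perm (Fin 5)) 4 : ℕ)) ∧
        fix a = 1).card = 3 ∧
    (Finset.univ.filter fun a : A5 =>
      (3 ≤ ((a : Equiv.Perm (Fin 5)) 3 : ℕ) ∧ 3 ≤ ((a : Equiv.Perm (Fin 5)) 4 : ℕ)) ∧
        fix a = 2).card = 2 := by decide +kernel

theorem five_count : (Finset.univ.filter fun a : A5 => fix a = 0).card = 24 ∧
    (Finset.univ.filter fun a : A5 => fix a = 1).card = 15 ∧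
    (Finset.univ.filter fun a : A5 => fix a = 5).card = 1 := by decide +kernel

theorem fix_cases : ∀ a : A5, (fix a = 5 ∧ a = 1) ∨ (fix a = 1 ∧ ∃ x : A5, x * uu * x⁻¹ = a) ∨
    (fix a = 2 ∧ ∃ x : A5, x * y3 * x⁻¹ = a) ∨ fix a = 0 := by decide +kernel

theorem central_filter : (Finset.univ.filter fun a : Model =>
    (a * (1, uu) = (1, uu) * a ∧ a * (1, y3) = (1, y3) * a) ∧
      (a * (1, f5) = (1, f5) * a ∧ a * a = 1)) = {1, tt} := by
  decide +kernel

theorem central_involution_eq (a : Model) (h1 : a * (1, uu) = (1, uu) * a)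
    (h2 : a * (1, y3) = (1, y3) * a) (h3 : a * (1, f5) = (1, f5) * a) (h4 : a * a = 1)
    (h5 : a ≠ 1) : a = tt := by
  have h : a ∈ ({1, tt} : Finset Model) :=
    central_filter ▸ Finset.mem_filter.2 ⟨Finset.mem_univ a, ⟨h1, h2⟩, h3, h4⟩
  simpa [h5] using h

theorem exists_noncomm : ∃ a b : Model, a * b ≠ b * a :=
  ⟨(1, uu), (1, y3), by decide +kernel⟩

theorem weighted_pairs : ∑ a : Model, (if a ^ 15 = 1 then psi a.2 * (pairs a⁻¹ : ℤ) else 0) = 0 := by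
  decide +kernel

theorem pairs_inv : pairs (1 : Model)⁻¹ = 30 ∧ pairs ((1, y3) : Model)⁻¹ = 6 ∧
    pairs ((1, f5) : Model)⁻¹ = 10 ∧ pairs ((1, f5 * f5) : Model)⁻¹ = 10 := by decide +kernel

end Cfsg.Agent.Char.JankoOne
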