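import Cfsg.Agent.Lib.Block.Principal

/-!
Projection of a class function on a section onto the principal block.
-/

open scoped ComplexConjugate

set_option autoImplicit false
set_option linter.unusedSectionVars false
set_option linter.style.haveILetI false

namespace Cfsg.Agent.Char.JankoOne

open Cfsg Cfsg.Agent.Block

universe u

variable {G : Type u} [Group G] [Finite G] {p : ℕ} {M : Ideal AlgInt} {z : G}

/-- The principal block part of a combination of characters on a section. -/
theorem principal_project [Fact p.Prime] [Fintype (IrrCharacter G)] (hM : IsPModular p M)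
    (hz : ∃ k : ℕ, orderOf z = p ^ k) [Fintype (Subgroup.centralizer ({z} : Set G))]
    {y : Subgroup.centralizer ({z} : Set G)} (hy : ¬ p ∣ orderOf y) (a : IrrCharacter G → ℂ) :
    ∑ᶠ χ ∈ principalBlock M G, a χ * (χ : G → ℂ) (z * (y : G)) =
      (Nat.card (Subgroup.centralizer ({z} : Set G)) : ℂ)⁻¹ *
        ∑ c : Subgroup.centralizer ({z} : Set G),
          (∑ᶠ ξ ∈ principalBlock M (Subgroup.centralizer ({z} : Set G)),
              (ξ : Subgroup.centralizer ({z} : Set G) → ℂ) y *
                conj ((ξ : Subgroup.centralizer ({z} : Set G) → ℂ) c)) *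
            ∑ χ : IrrCharacter G, a χ * (χ : G → ℂ) (z * (c : G)) := by
  classical
  cases nonempty_fintype G
  obtain ⟨k, hk⟩ := hz
  have hP : IsPGroup p (Subgroup.zpowers z) :=
    IsPGroup.of_card (n := k) (by rw [Nat.card_zpowers, hk])
  have hC : ∀ c ∈ Subgroup.centralizer ({z} : Set G),
      c ∈ Subgroup.normalizer ((Subgroup.zpowers z : Subgroup G) : Set G) := by
    intro c hc
    have hcz : Commute c z := Subgroup.mem_centralizer_singleton_iff.1 hc
    rw [Subgroup.mem_normalizer_iff]
    intro w
    constructor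
    · intro hw
      obtain ⟨i, rfl⟩ := Subgroup.mem_zpowers_iff.1 hw
      rw [(hcz.zpow_right i).eq, mul_inv_cancel_right]
      exact hw
    · intro hw
      obtain ⟨i, hi⟩ := Subgroup.mem_zpowers_iff.1 hw
      have : w = z ^ i := by
        calc w = c⁻¹ * (c * w * c⁻¹) * c := by group
          _ = c⁻¹ * z ^ i * c := by rw [hi]
          _ = z ^ i := by rw [mul_assoc, ← (hcz.zpow_right i).eq, inv_mul_cancel_left]
      exact this ▸ Subgroup.zpow_mem _ (Subgroup.mem_zpowers z) i
  have hdef : ∀ ξ : IrrCharacter (Subgroup.centralizer ({z} : Set G)),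
      InducedBlockDefined M (Subgroup.centralizer ({z} : Set G))
        (blockOf M (ξ : Subgroup.centralizer ({z} : Set G) → ℂ)) := fun ξ =>
    inducedBlockDefined_brauer hM hP (Subgroup.zpowers_le.2 (centralizer_self_mem z))
      (Subgroup.centralizer_le (Set.singleton_subset_iff.2 (Subgroup.mem_zpowers z))) hC
      (isPBlock_blockOf ξ)
  set S := Finset.univ.filter (fun ξ : IrrCharacter (Subgroup.centralizer ({z} : Set G)) =>
    IsInducedBlock M (Subgroup.centralizer ({z} : Set G))
      (blockOf M (ξ : Subgroup.centralizer ({z} : Set G) → ℂ)) (principalBlock M G)) with hSdef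
  have hS : S = Finset.univ.filter (fun ξ : IrrCharacter (Subgroup.centralizer ({z} : Set G)) =>
      ξ ∈ principalBlock M (Subgroup.centralizer ({z} : Set G))) := by
    ext ξ
    simp only [S, Finset.mem_filter, Finset.mem_univ, true_and]
    rw [principal_third_main hM (hdef ξ)]
    exact ⟨fun h => h ▸ mem_blockOf_self hM ξ,
      fun h => (pblock_eq_blockOf hM isPBlock_principalBlock h).symm⟩
  set Φ := fun c : Subgroup.centralizer ({z} : Set G) =>
    ∑ ξ ∈ S, conj ((ξ : Subgroup.centralizer ({z} : Set G) → ℂ) c) *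
      (ξ : Subgroup.centralizer ({z} : Set G) → ℂ) y with hΦdef
  have hval : ∀ χ : IrrCharacter G,
      (Nat.card (Subgroup.centralizer ({z} : Set G)) : ℂ)⁻¹ *
          ∑ c : Subgroup.centralizer ({z} : Set G), (χ : G → ℂ) (z * (c : G)) * Φ c =
        if χ ∈ principalBlock M G then (χ : G → ℂ) (z * (y : G)) else 0 := by
    intro χ
    rw [← value_eq_sum_inducing hM ⟨k, hk⟩ isPBlock_principalBlock hy χ]
    simp only [Φ, classInner, Finset.mul_sum, Finset.sum_mul]
    rw [Finset.sum_comm]
    exact Finset.sum_congr rfl fun ξ _ => Finset.sum_congr rfl fun c _ => by ring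
  have hΦ : ∀ c : Subgroup.centralizer ({z} : Set G), Φ c =
      ∑ᶠ ξ ∈ principalBlock M (Subgroup.centralizer ({z} : Set G)),
        (ξ : Subgroup.centralizer ({z} : Set G) → ℂ) y *
          conj ((ξ : Subgroup.centralizer ({z} : Set G) → ℂ) c) := fun c => by
    rw [finsum_mem_block]
    simp only [Φ, hS]
    exact Finset.sum_congr rfl fun ξ _ => mul_comm _ _
  simp only [← hΦ]
  rw [finsum_mem_block, Finset.sum_filter]
  calc (∑ χ : IrrCharacter G, if χ ∈ principalBlock M G then a χ * (χ : G → ℂ) (z * (y : G)) else 0)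
      = ∑ χ : IrrCharacter G, a χ * ((Nat.card (Subgroup.centralizer ({z} : Set G)) : ℂ)⁻¹ *
          ∑ c : Subgroup.centralizer ({z} : Set G), (χ : G → ℂ) (z * (c : G)) * Φ c) :=
        Finset.sum_congr rfl fun χ _ => by rw [hval χ, mul_ite, mul_zero]
    _ = (Nat.card (Subgroup.centralizer ({z} : Set G)) : ℂ)⁻¹ *
          ∑ c : Subgroup.centralizer ({z} : Set G),
            Φ c * ∑ χ : IrrCharacter G, a χ * (χ : G → ℂ) (z * (c : G)) := by
        simp only [Finset.mul_sum]
        rw [Finset.sum_comm]
        exact Finset.sum_congr rfl fun c _ => Finset.sum_congr rfl fun χ _ => by ring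

end Cfsg.Agent.Char.JankoOne
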