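import Mathlib

/-!
The rows of the principal 2-block in the section of the involution.
-/

set_option autoImplicit false

namespace Cfsg.Agent.Char.JankoOne

variable {ι : Type*}

/-- The inner products of the three coefficient columns. -/
structure Gram (B : Finset ι) (e0 : ι) (τ : ι → ι) (v0 v1 v2 : ι → ℤ) : Prop where
  he0 : e0 ∈ B
  r0 : v0 e0 = 1 ∧ v1 e0 = 0 ∧ v2 e0 = 0
  mem : ∀ χ ∈ B, τ χ ∈ B ∧ v0 (τ χ) = v0 χ ∧ v1 (τ χ) = v2 χ ∧ v2 (τ χ) = v1 χ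
  inj : Function.Injective τ
  s00 : ∑ χ ∈ B, v0 χ ^ 2 = 8
  s11 : ∑ χ ∈ B, v1 χ ^ 2 = 4
  s22 : ∑ χ ∈ B, v2 χ ^ 2 = 4
  s01 : ∑ χ ∈ B, v0 χ * v1 χ = 4
  s02 : ∑ χ ∈ B, v0 χ * v2 χ = 4
  s12 : ∑ χ ∈ B, v1 χ * v2 χ = 2

/-- A row up to sign. -/
def IsRow (v0 v1 v2 : ι → ℤ) (χ : ι) (ε a b c : ℤ) : Prop :=
  (ε = 1 ∨ ε = -1) ∧ v0 χ = ε * a ∧ v1 χ = ε * b ∧ v2 χ = ε * c

/-- The regular arrangement. -/
structure Standard (B : Finset ι) (e0 : ι) (τ : ι → ι) (v0 v1 v2 : ι → ℤ) (a b c d e : ι)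
    (ra rb rc rd re : ℤ) : Prop where
  ha : a ∈ B ∧ IsRow v0 v1 v2 a ra 1 1 1
  hb : b ∈ B ∧ IsRow v0 v1 v2 b rb 1 1 1
  hc : c ∈ B ∧ IsRow v0 v1 v2 c rc 1 1 0
  hd : d ∈ B ∧ IsRow v0 v1 v2 d rd 1 1 0
  he : e ∈ B ∧ e ≠ e0 ∧ IsRow v0 v1 v2 e re 1 0 0
  sum : ∀ F : ι → ℂ, (∀ χ ∈ B, v0 χ = 0 → v1 χ = 0 → v2 χ = 0 → F χ = 0) →
    ∑ χ ∈ B, F χ = F e0 + F a + F b + F c + F (τ c) + F d + F (τ d) + F e

/-- The exceptional arrangement. -/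
structure Exceptional (B : Finset ι) (e0 : ι) (τ : ι → ι) (v0 v1 v2 : ι → ℤ) (a c e f : ι)
    (ra rc re rf : ℤ) : Prop where
  ha : a ∈ B ∧ IsRow v0 v1 v2 a ra 0 1 0
  hc : c ∈ B ∧ IsRow v0 v1 v2 c rc 1 1 0
  he : e ∈ B ∧ IsRow v0 v1 v2 e re 1 1 1
  hf : f ∈ B ∧ IsRow v0 v1 v2 f rf 2 1 1
  sum : ∀ F : ι → ℂ, (∀ χ ∈ B, v0 χ = 0 → v1 χ = 0 → v2 χ = 0 → F χ = 0) →
    ∑ χ ∈ B, F χ = F e0 + F a + F (τ a) + F c + F (τ c) + F e + F f

theorem eq_pair_of_sum_sq {B : Finset ι} (f : ι → ℤ) (h : ∑ χ ∈ B, f χ ^ 2 = 2) :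
    ∃ a b, a ∈ B ∧ b ∈ B ∧ a ≠ b ∧ (f a = 1 ∨ f a = -1) ∧ (f b = 1 ∨ f b = -1) ∧
      ∀ χ ∈ B, χ ≠ a → χ ≠ b → f χ = 0 := by
  classical
  have hle : ∀ χ ∈ B, f χ = 0 ∨ f χ = 1 ∨ f χ = -1 := by
    intro χ hχ
    have h1 := Finset.single_le_sum (f := fun i => f i ^ 2) (fun i _ => sq_nonneg (f i)) hχ
    simp only [h] at h1
    have h2 : -2 < f χ := by nlinarith
    have h3 : f χ < 2 := by nlinarith
    omega
  set S := B.filter fun χ => f χ ≠ 0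
  have hS : (S.card : ℤ) = 2 := by
    rw [← h, ← Finset.sum_filter_of_ne (p := fun χ => f χ ≠ 0) (fun χ _ hne h0 => hne (by simp [h0])),
      Finset.cast_card]
    refine Finset.sum_congr rfl fun χ hχ => ?_
    have := hle χ (Finset.mem_filter.1 hχ).1
    have h0 := (Finset.mem_filter.1 hχ).2
    rcases this with h' | h' | h'
    · exact absurd h' h0
    all_goals simp [h']
  obtain ⟨a, b, hab, he⟩ := Finset.card_eq_two.1 (show S.card = 2 by exact_mod_cast hS)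
  have hmem : ∀ χ, χ ∈ S ↔ χ = a ∨ χ = b := fun χ => by rw [he]; simp
  obtain ⟨haB, ha⟩ := Finset.mem_filter.1 ((hmem a).2 (.inl rfl))
  obtain ⟨hbB, hb⟩ := Finset.mem_filter.1 ((hmem b).2 (.inr rfl))
  refine ⟨a, b, haB, hbB, hab, (hle a haB).resolve_left ha, (hle b hbB).resolve_left hb,
    fun χ hχ h1 h2 => ?_⟩
  by_contra h0
  rcases (hmem χ).1 (Finset.mem_filter.2 ⟨hχ, h0⟩) with h' | h'
  · exact h1 h'
  · exact h2 h'

theorem sum_split {M : Type*} [AddCommMonoid M] [DecidableEq ι] (B S : Finset ι) (hS : S ⊆ B)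
    (F : ι → M) (h : ∀ χ ∈ B, χ ∉ S → F χ = 0) : ∑ χ ∈ B, F χ = ∑ χ ∈ S, F χ :=
  (Finset.sum_subset hS h).symm

theorem sum_seven {M : Type*} [AddCommMonoid M] [DecidableEq ι] (F : ι → M) {a b c d e f g : ι}
    (h : [a, b, c, d, e, f, g].Nodup) :
    ∑ χ ∈ ({a, b, c, d, e, f, g} : Finset ι), F χ = F a + F b + F c + F d + F e + F f + F g := by
  have hs : ({a, b, c, d, e, f, g} : Finset ι) = [a, b, c, d, e, f, g].toFinset := by
    ext x; simp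
  rw [hs, List.sum_toFinset F h]
  simp [add_assoc]

theorem sum_eight {M : Type*} [AddCommMonoid M] [DecidableEq ι] (F : ι → M) {a b c d e f g k : ι}
    (h : [a, b, c, d, e, f, g, k].Nodup) :
    ∑ χ ∈ ({a, b, c, d, e, f, g, k} : Finset ι), F χ =
      F a + F b + F c + F d + F e + F f + F g + F k := by
  have hs : ({a, b, c, d, e, f, g, k} : Finset ι) = [a, b, c, d, e, f, g, k].toFinset := by
    ext x; simp
  rw [hs, List.sum_toFinset F h]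
  simp [add_assoc]

variable {B : Finset ι} {e0 : ι} {τ : ι → ι} {v0 v1 v2 : ι → ℤ}

theorem coef_cases : ∀ p ∈ Finset.Icc (-1 : ℤ) 1, ∀ q ∈ Finset.Icc (-1 : ℤ) 1,
    ∀ k ∈ Finset.Icc (-2 : ℤ) 2, ∀ l ∈ Finset.Icc (-2 : ℤ) 2, p + q + k + l = 4 →
    2 * p ^ 2 + 2 * q ^ 2 + k ^ 2 + l ^ 2 ≤ 7 →
    (p = 1 ∧ q = 1 ∧ k = 1 ∧ l = 1 ∧ 2 * p ^ 2 + 2 * q ^ 2 + k ^ 2 + l ^ 2 = 6) ∨
    (2 * p ^ 2 + 2 * q ^ 2 + k ^ 2 + l ^ 2 = 7 ∧ ((p = 1 ∧ q = 0) ∨ (p = 0 ∧ q = 1)) ∧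
      ((k = 2 ∧ l = 1) ∨ (k = 1 ∧ l = 2))) := by decide

/-- The rows of the Gram matrix of the section. -/
theorem Gram.cases (G : Gram B e0 τ v0 v1 v2) :
    (∃ a b c d e ra rb rc rd re, Standard B e0 τ v0 v1 v2 a b c d e ra rb rc rd re) ∨
      ∃ a c e f ra rc re rf, Exceptional B e0 τ v0 v1 v2 a c e f ra rc re rf := by
  classical
  obtain ⟨he0, ⟨h00, h01, h02⟩, hmem, hinj, s00, s11, s22, s01, s02, s12⟩ := G
  have hτ : ∀ χ ∈ B, τ χ ∈ B := fun χ h => (hmem χ h).1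
  -- the rows moved by the involution
  have hdiff : ∑ χ ∈ B, (v1 χ - v2 χ) ^ 2 = 4 := by
    have : ∀ χ ∈ B, (v1 χ - v2 χ) ^ 2 = v1 χ ^ 2 + v2 χ ^ 2 - 2 * (v1 χ * v2 χ) := fun χ _ => by ring
    rw [Finset.sum_congr rfl this, Finset.sum_sub_distrib, Finset.sum_add_distrib, ← Finset.mul_sum,
      s11, s22, s12]
    norm_num
  have hsumsq : ∑ χ ∈ B, (v1 χ + v2 χ) ^ 2 = 12 := by
    have : ∀ χ ∈ B, (v1 χ + v2 χ) ^ 2 = v1 χ ^ 2 + v2 χ ^ 2 + 2 * (v1 χ * v2 χ) := fun χ _ => by ring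
    rw [Finset.sum_congr rfl this, Finset.sum_add_distrib, Finset.sum_add_distrib, ← Finset.mul_sum,
      s11, s22, s12]
    norm_num
  have hne : ∀ χ ∈ B, v1 χ ≠ v2 χ → τ χ ≠ χ := fun χ hχ h he => h (by
    have := (hmem χ hχ).2.2.1
    rw [he] at this
    exact this)
  have hd2 : ∀ χ ∈ B, v1 χ ≠ v2 χ → (v1 χ - v2 χ) ^ 2 = 1 := by
    intro χ hχ h
    have hp := Finset.sum_le_sum_of_subset_of_nonneg
      (Finset.insert_subset hχ (Finset.singleton_subset_iff.2 (hτ χ hχ)))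
      (fun i _ _ => sq_nonneg (v1 i - v2 i))
    rw [Finset.sum_pair (hne χ hχ h).symm, hdiff, (hmem χ hχ).2.2.1, (hmem χ hχ).2.2.2] at hp
    have h1 : (v1 χ - v2 χ) ^ 2 ≤ 2 := by nlinarith
    have h2 : -2 < v1 χ - v2 χ := by nlinarith
    have h3 : v1 χ - v2 χ < 2 := by nlinarith
    have h4 : v1 χ - v2 χ = 1 ∨ v1 χ - v2 χ = -1 := by omega
    rcases h4 with h4 | h4 <;> rw [h4] <;> norm_num
  set D := B.filter fun χ => v1 χ ≠ v2 χ with hDdef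
  have hD4 : D.card = 4 := by
    have : (D.card : ℤ) = 4 := by
      rw [← hdiff, ← Finset.sum_filter_of_ne (p := fun χ => v1 χ ≠ v2 χ)
        (fun χ _ hne' h0 => hne' (by simp [h0])), Finset.cast_card]
      exact Finset.sum_congr rfl fun χ hχ =>
        (hd2 χ (Finset.mem_filter.1 hχ).1 (Finset.mem_filter.1 hχ).2).symm
    exact_mod_cast this
  have hDτ : ∀ χ ∈ D, τ χ ∈ D := fun χ hχ => by
    obtain ⟨h1, h2⟩ := Finset.mem_filter.1 hχ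
    refine Finset.mem_filter.2 ⟨hτ χ h1, ?_⟩
    rw [(hmem χ h1).2.2.1, (hmem χ h1).2.2.2]
    exact Ne.symm h2
  have hunit : ∀ χ ∈ D, (v1 χ + v2 χ) ^ 2 = 1 := by
    intro χ hχ
    obtain ⟨h1, h2⟩ := Finset.mem_filter.1 hχ
    have hp := Finset.sum_le_sum_of_subset_of_nonneg
      (Finset.insert_subset h1 (Finset.singleton_subset_iff.2 (hτ χ h1)))
      (fun i _ _ => sq_nonneg (v1 i + v2 i))
    rw [Finset.sum_pair (hne χ h1 h2).symm, hsumsq, (hmem χ h1).2.2.1, (hmem χ h1).2.2.2] at hp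
    have h4 : (v1 χ + v2 χ) ^ 2 ≤ 6 := by nlinarith
    have h5 : -3 < v1 χ + v2 χ := by nlinarith
    have h6 : v1 χ + v2 χ < 3 := by nlinarith
    have h7 : v1 χ - v2 χ = 1 ∨ v1 χ - v2 χ = -1 := sq_eq_one_iff.1 (hd2 χ h1 h2)
    have h8 : v1 χ + v2 χ = 1 ∨ v1 χ + v2 χ = -1 := by omega
    rcases h8 with h8 | h8 <;> rw [h8] <;> norm_num
  -- normalise
  have hone : ∀ χ ∈ D, v2 χ = 0 ∧ (v1 χ = 1 ∨ v1 χ = -1) ∨ v1 χ = 0 ∧ (v2 χ = 1 ∨ v2 χ = -1) := by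
    intro χ hχ
    obtain ⟨h1, h2⟩ := Finset.mem_filter.1 hχ
    have h7 := sq_eq_one_iff.1 (hd2 χ h1 h2)
    have h8 := sq_eq_one_iff.1 (hunit χ hχ)
    omega
  set D0 := D.filter fun χ => v2 χ = 0 with hD0
  set D1 := D.filter fun χ => ¬ v2 χ = 0 with hD1
  have hD0B : ∀ χ ∈ D0, χ ∈ B := fun χ h => (Finset.mem_filter.1 (Finset.mem_filter.1 h).1).1
  have h01' : ∀ χ ∈ D0, τ χ ∈ D1 := by
    intro χ hχ
    obtain ⟨h1, h2⟩ := Finset.mem_filter.1 hχ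
    refine Finset.mem_filter.2 ⟨hDτ χ h1, ?_⟩
    rw [(hmem χ (Finset.mem_filter.1 h1).1).2.2.2]
    rcases hone χ h1 with h | h <;> omega
  have h10' : ∀ χ ∈ D1, τ χ ∈ D0 := by
    intro χ hχ
    obtain ⟨h1, h2⟩ := Finset.mem_filter.1 hχ
    refine Finset.mem_filter.2 ⟨hDτ χ h1, ?_⟩
    rw [(hmem χ (Finset.mem_filter.1 h1).1).2.2.2]
    rcases hone χ h1 with h | h <;> omega
  have hcard : D0.card + D1.card = 4 := by
    rw [← hD4]; exact Finset.card_filter_add_card_filter_not _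
  have hle01 : D0.card ≤ D1.card := Finset.card_le_card_of_injOn τ h01' hinj.injOn
  have hle10 : D1.card ≤ D0.card := Finset.card_le_card_of_injOn τ h10' hinj.injOn
  obtain ⟨c, d, hcd, hD0eq⟩ := Finset.card_eq_two.1 (show D0.card = 2 by omega)
  have hcD0 : c ∈ D0 := by rw [hD0eq]; simp
  have hdD0 : d ∈ D0 := by rw [hD0eq]; simp
  have horient : ∀ χ ∈ D0, ∃ ε p, IsRow v0 v1 v2 χ ε p 1 0 := by
    intro χ hχ
    obtain ⟨h1, h2⟩ := Finset.mem_filter.1 hχ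
    have h3 : v1 χ = 1 ∨ v1 χ = -1 := by rcases hone χ h1 with h | h <;> omega
    refine ⟨v1 χ, v1 χ * v0 χ, h3, ?_, by ring, by rw [h2]; ring⟩
    rcases h3 with h | h <;> rw [h] <;> ring
  obtain ⟨εc, p, hrc⟩ := horient c hcD0
  obtain ⟨εd, q, hrd⟩ := horient d hdD0
  have hcD := (Finset.mem_filter.1 hcD0).1
  have hdD := (Finset.mem_filter.1 hdD0).1
  have hcB := hD0B c hcD0
  have hdB := hD0B d hdD0
  have hnc := hne c hcB (Finset.mem_filter.1 hcD).2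
  have hnd := hne d hdB (Finset.mem_filter.1 hdD).2
  have hsep : ∀ χ ∈ D0, ∀ ψ ∈ D0, τ χ ≠ ψ := fun χ hχ ψ hψ h =>
    (Finset.mem_filter.1 (h01' χ hχ)).2 (h ▸ (Finset.mem_filter.1 hψ).2)
  have hdc : d ≠ c ∧ d ≠ τ c := ⟨Ne.symm hcd, Ne.symm (hsep c hcD0 d hdD0)⟩
  have hcd2 : τ d ≠ c ∧ τ d ≠ τ c := ⟨hsep d hdD0 c hcD0, fun e => hcd (hinj e).symm⟩
  have hDeq : D = {c, τ c, d, τ d} := by
    refine (Finset.eq_of_subset_of_card_le ?_ ?_).symm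
    · simp only [Finset.insert_subset_iff, Finset.singleton_subset_iff]
      exact ⟨hcD, hDτ c hcD, hdD, hDτ d hdD⟩
    · rw [hD4]
      exact le_of_eq (by
        rw [Finset.card_insert_of_notMem (by simp [hnc.symm, hdc.1.symm, hcd2.1.symm]),
          Finset.card_insert_of_notMem (by simp [hdc.2.symm, hcd2.2.symm]),
          Finset.card_pair hnd.symm])
  set R := B.filter fun χ => v1 χ = v2 χ with hRdef
  have hsplit : ∀ F : ι → ℤ, ∑ χ ∈ B, F χ = F c + F (τ c) + F d + F (τ d) + ∑ χ ∈ R, F χ := by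
    intro F
    rw [← Finset.sum_filter_add_sum_filter_not B (fun χ => v1 χ ≠ v2 χ) F, ← hDdef, hDeq,
      Finset.sum_insert (by simp [hnc.symm, hdc.1.symm, hcd2.1.symm]),
      Finset.sum_insert (by simp [hdc.2.symm, hcd2.2.symm]), Finset.sum_pair hnd.symm]
    simp only [not_not, ← hRdef]
    ring
  obtain ⟨hεc, c0, c1, c2⟩ := hrc
  obtain ⟨hεd, d0, d1, d2⟩ := hrd
  obtain ⟨-, tc0, tc1, tc2⟩ := hmem c hcB
  obtain ⟨-, td0, td1, td2⟩ := hmem d hdB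
  have hεc2 : εc ^ 2 = 1 := by rcases hεc with h | h <;> simp [h]
  have hεd2 : εd ^ 2 = 1 := by rcases hεd with h | h <;> simp [h]
  have hR1 : ∑ χ ∈ R, v1 χ ^ 2 = 2 := by
    have h := hsplit (fun χ => v1 χ ^ 2)
    rw [s11, c1, tc1, c2, d1, td1, d2] at h
    ring_nf at h
    linarith
  obtain ⟨a, b, haR, hbR, hab, ha1, hb1, hrest⟩ := eq_pair_of_sum_sq v1 hR1
  obtain ⟨haB, ha2⟩ := Finset.mem_filter.1 haR
  obtain ⟨hbB, hb2⟩ := Finset.mem_filter.1 hbR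
  set k := v1 a * v0 a with hk
  set l := v1 b * v0 b with hl
  have hR01 : ∑ χ ∈ R, v0 χ * v1 χ = k + l := by
    rw [sum_split R {a, b} (Finset.insert_subset haR (Finset.singleton_subset_iff.2 hbR))
      (fun χ => v0 χ * v1 χ) (fun χ hχ h => by
        simp only [Finset.mem_insert, Finset.mem_singleton, not_or] at h
        show v0 χ * v1 χ = 0
        rw [hrest χ hχ h.1 h.2, mul_zero]),
      Finset.sum_pair hab, hk, hl]
    ring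
  have hlin : p + q + k + l = 4 := by
    have h := hsplit (fun χ => v0 χ * v1 χ)
    rw [s01, c1, tc1, c2, d1, td1, d2, c0, d0, tc0, c0, td0, d0, hR01] at h
    linear_combination -h - p * hεc2 - q * hεd2
  have he0R : e0 ∈ R := Finset.mem_filter.2 ⟨he0, by rw [h01, h02]⟩
  have hea : e0 ≠ a := fun h => by rw [← h, h01] at ha1; omega
  have heb : e0 ≠ b := fun h => by rw [← h, h01] at hb1; omega
  set R' := ((R.erase e0).erase a).erase b with hR'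
  have hka : k ^ 2 = v0 a ^ 2 := by rcases ha1 with h | h <;> simp [hk, h]
  have hlb : l ^ 2 = v0 b ^ 2 := by rcases hb1 with h | h <;> simp [hl, h]
  have hnorm : 2 * p ^ 2 + 2 * q ^ 2 + k ^ 2 + l ^ 2 + ∑ χ ∈ R', v0 χ ^ 2 = 7 := by
    have h := hsplit (fun χ => v0 χ ^ 2)
    rw [s00, tc0, td0, c0, d0, ← Finset.add_sum_erase R _ he0R,
      ← Finset.add_sum_erase (R.erase e0) _ (Finset.mem_erase.2 ⟨hea.symm, haR⟩),
      ← Finset.add_sum_erase ((R.erase e0).erase a) _ (Finset.mem_erase.2 ⟨hab.symm,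
        Finset.mem_erase.2 ⟨heb.symm, hbR⟩⟩), h00, ← hR', ← hka, ← hlb] at h
    linear_combination -h - (2 * p ^ 2) * hεc2 - (2 * q ^ 2) * hεd2
  have hnn : 0 ≤ ∑ χ ∈ R', v0 χ ^ 2 := Finset.sum_nonneg fun i _ => sq_nonneg _
  set S := ∑ χ ∈ R', v0 χ ^ 2 with hS
  have hrowc : IsRow v0 v1 v2 c εc p 1 0 := ⟨hεc, c0, c1, c2⟩
  have hrowd : IsRow v0 v1 v2 d εd q 1 0 := ⟨hεd, d0, d1, d2⟩
  have hrowa : IsRow v0 v1 v2 a (v1 a) k 1 1 := ⟨ha1, by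
    rcases ha1 with h | h <;> rw [hk, h] <;> ring, by ring, by rw [← ha2]; ring⟩
  have hrowb : IsRow v0 v1 v2 b (v1 b) l 1 1 := ⟨hb1, by
    rcases hb1 with h | h <;> rw [hl, h] <;> ring, by ring, by rw [← hb2]; ring⟩
  -- the cases
  have hzero : ∀ χ ∈ B, χ ∉ ({e0, a, b, c, τ c, d, τ d} : Finset ι) →
      χ ∈ R' ∧ v1 χ = 0 ∧ v2 χ = 0 := by
    intro χ hχ h
    simp only [Finset.mem_insert, Finset.mem_singleton, not_or] at h
    obtain ⟨n0, na, nb, n1, n2, n3, n4⟩ := h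
    have hR : χ ∈ R := by
      refine Finset.mem_filter.2 ⟨hχ, ?_⟩
      by_contra hne'
      have : χ ∈ D := Finset.mem_filter.2 ⟨hχ, hne'⟩
      rw [hDeq] at this
      simp [n1, n2, n3, n4] at this
    exact ⟨by simp [hR', hR, n0, na, nb], hrest χ hR na nb,
      (Finset.mem_filter.1 hR).2 ▸ hrest χ hR na nb⟩
  have hcne : ∀ χ ∈ R, χ ≠ c ∧ χ ≠ τ c ∧ χ ≠ d ∧ χ ≠ τ d := by
    intro χ hχ
    have h1 := (Finset.mem_filter.1 hχ).2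
    have h2 : ∀ y ∈ D, χ ≠ y := fun y hy e => (Finset.mem_filter.1 hy).2 (e ▸ h1)
    exact ⟨h2 c hcD, h2 _ (hDτ c hcD), h2 d hdD, h2 _ (hDτ d hdD)⟩
  obtain ⟨e0c, e0tc, e0d, e0td⟩ := hcne e0 he0R
  obtain ⟨ac, atc, ad, atd⟩ := hcne a haR
  obtain ⟨bc, btc, bd, btd⟩ := hcne b hbR
  have hsub : ({e0, a, b, c, τ c, d, τ d} : Finset ι) ⊆ B := by
    simp only [Finset.insert_subset_iff, Finset.singleton_subset_iff]
    exact ⟨he0, haB, hbB, hcB, hτ c hcB, hdB, hτ d hdB⟩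
  have hnd7 : [e0, a, b, c, τ c, d, τ d].Nodup := by
    simp [hea, heb, e0c, e0tc, e0d, e0td, hab, ac, atc, ad, atd, bc, btc, bd, btd, hnc.symm,
      hdc.1.symm, hdc.2.symm, hcd2.1.symm, hcd2.2.symm, hnd.symm]
  have hbounds : p ^ 2 ≤ 3 ∧ q ^ 2 ≤ 3 ∧ k ^ 2 ≤ 7 ∧ l ^ 2 ≤ 7 :=
    ⟨by nlinarith, by nlinarith, by nlinarith, by nlinarith⟩
  obtain ⟨bp, bq, bk, bl⟩ := hbounds
  have hp1 : -1 ≤ p ∧ p ≤ 1 := ⟨by nlinarith, by nlinarith⟩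
  have hq1 : -1 ≤ q ∧ q ≤ 1 := ⟨by nlinarith, by nlinarith⟩
  have hk1 : -2 ≤ k ∧ k ≤ 2 := ⟨by nlinarith, by nlinarith⟩
  have hl1 : -2 ≤ l ∧ l ≤ 2 := ⟨by nlinarith, by nlinarith⟩
  have hcase : (p = 1 ∧ q = 1 ∧ k = 1 ∧ l = 1 ∧ S = 1) ∨
      (S = 0 ∧ ((p = 1 ∧ q = 0) ∨ (p = 0 ∧ q = 1)) ∧ ((k = 2 ∧ l = 1) ∨ (k = 1 ∧ l = 2))) := by
    rcases coef_cases p (Finset.mem_Icc.2 hp1) q (Finset.mem_Icc.2 hq1) k (Finset.mem_Icc.2 hk1)
      l (Finset.mem_Icc.2 hl1) hlin (by linarith) with ⟨h1, h2, h3, h4, h5⟩ | ⟨h5, h6⟩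
    · exact Or.inl ⟨h1, h2, h3, h4, by linarith⟩
    · exact Or.inr ⟨by linarith, h6⟩
  rcases hcase with ⟨rfl, rfl, hk', hl', hS1⟩ | ⟨hS0, hpq, hkl⟩
  · rw [hk'] at hrowa
    rw [hl'] at hrowb
    set T := R'.filter fun χ => v0 χ ≠ 0 with hT
    have hTc : T.card = 1 := by
      have hle : ∀ χ ∈ T, v0 χ ^ 2 = 1 := by
        intro χ hχ
        obtain ⟨h1, h2⟩ := Finset.mem_filter.1 hχ
        have h3 := Finset.single_le_sum (f := fun i => v0 i ^ 2) (fun i _ => sq_nonneg (v0 i)) h1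
        simp only [← hS, hS1] at h3
        have : 0 < v0 χ ^ 2 := by positivity
        omega
      have : (T.card : ℤ) = 1 := by
        rw [← hS1, hS, ← Finset.sum_filter_of_ne (p := fun χ => v0 χ ≠ 0)
          (fun χ _ hne' h0 => hne' (by simp [h0])), Finset.cast_card]
        exact Finset.sum_congr rfl fun χ hχ => (hle χ hχ).symm
      exact_mod_cast this
    obtain ⟨e, he⟩ := Finset.card_eq_one.1 hTc
    obtain ⟨heR, hev⟩ := Finset.mem_filter.1 (he ▸ Finset.mem_singleton_self e : e ∈ T)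
    simp only [hR', Finset.mem_erase] at heR
    obtain ⟨neb, nea, ne0, heR⟩ := heR
    obtain ⟨ec, etc', ed, etd⟩ := hcne e heR
    obtain ⟨heB, he2⟩ := Finset.mem_filter.1 heR
    have hz := hrest e heR nea neb
    have hev1 : v0 e = 1 ∨ v0 e = -1 := by
      refine sq_eq_one_iff.1 ?_
      have h3 := Finset.single_le_sum (f := fun i => v0 i ^ 2) (fun i _ => sq_nonneg (v0 i))
        (show e ∈ R' by simp [hR', neb, nea, ne0, heR])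
      simp only [← hS, hS1] at h3
      have : 0 < v0 e ^ 2 := by positivity
      omega
    refine Or.inl ⟨a, b, c, d, e, v1 a, v1 b, εc, εd, v0 e, ⟨haB, hrowa⟩, ⟨hbB, hrowb⟩,
      ⟨hcB, hrowc⟩, ⟨hdB, hrowd⟩, ⟨heB, ne0, hev1, by ring, by rw [hz]; ring,
        by rw [← he2, hz]; ring⟩, fun F hF => ?_⟩
    have hsub8 : ({e0, a, b, c, τ c, d, τ d, e} : Finset ι) ⊆ B := by
      simp only [Finset.insert_subset_iff, Finset.singleton_subset_iff]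
      exact ⟨he0, haB, hbB, hcB, hτ c hcB, hdB, hτ d hdB, heB⟩
    have hnd8 : [e0, a, b, c, τ c, d, τ d, e].Nodup := by
      rw [show [e0, a, b, c, τ c, d, τ d, e] = [e0, a, b, c, τ c, d, τ d] ++ [e] from rfl,
        List.nodup_append]
      refine ⟨hnd7, by simp, ?_⟩
      simp [ne0.symm, nea.symm, neb.symm, ec.symm, etc'.symm, ed.symm, etd.symm]
    rw [sum_split B _ hsub8 F ?_, sum_eight F hnd8]
    intro χ hχ h
    simp only [Finset.mem_insert, Finset.mem_singleton, not_or] at h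
    obtain ⟨hR2, h1, h2⟩ := hzero χ hχ (by simp [h])
    refine hF χ hχ ?_ h1 h2
    by_contra h0
    have : χ ∈ T := Finset.mem_filter.2 ⟨hR2, h0⟩
    rw [he, Finset.mem_singleton] at this
    exact h.2.2.2.2.2.2.2 this
  · refine Or.inr ?_
    have hv : ∀ χ ∈ R', v0 χ = 0 := fun χ hχ => sq_eq_zero_iff.1
      ((Finset.sum_eq_zero_iff_of_nonneg fun i _ => sq_nonneg (v0 i)).1 hS0 χ hχ)
    have hsum : ∀ F : ι → ℂ, (∀ χ ∈ B, v0 χ = 0 → v1 χ = 0 → v2 χ = 0 → F χ = 0) →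
        ∑ χ ∈ B, F χ = F e0 + F a + F b + F c + F (τ c) + F d + F (τ d) := by
      intro F hF
      rw [sum_split B _ hsub F (fun χ hχ h => ?_), sum_seven F hnd7]
      obtain ⟨hR2, h1, h2⟩ := hzero χ hχ h
      exact hF χ hχ (hv χ hR2) h1 h2
    rcases hpq with ⟨rfl, rfl⟩ | ⟨rfl, rfl⟩ <;> rcases hkl with ⟨hk', hl'⟩ | ⟨hk', hl'⟩ <;>
      rw [hk'] at hrowa <;> rw [hl'] at hrowb
    · exact ⟨d, c, b, a, εd, εc, v1 b, v1 a, ⟨hdB, hrowd⟩, ⟨hcB, hrowc⟩, ⟨hbB, hrowb⟩,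
        ⟨haB, hrowa⟩, fun F hF => by rw [hsum F hF]; ring⟩
    · exact ⟨d, c, a, b, εd, εc, v1 a, v1 b, ⟨hdB, hrowd⟩, ⟨hcB, hrowc⟩, ⟨haB, hrowa⟩,
        ⟨hbB, hrowb⟩, fun F hF => by rw [hsum F hF]; ring⟩
    · exact ⟨c, d, b, a, εc, εd, v1 b, v1 a, ⟨hcB, hrowc⟩, ⟨hdB, hrowd⟩, ⟨hbB, hrowb⟩,
        ⟨haB, hrowa⟩, fun F hF => by rw [hsum F hF]; ring⟩
    · exact ⟨c, d, a, b, εc, εd, v1 a, v1 b, ⟨hcB, hrowc⟩, ⟨hdB, hrowd⟩, ⟨haB, hrowa⟩,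
        ⟨hbB, hrowb⟩, fun F hF => by rw [hsum F hF]; ring⟩

end Cfsg.Agent.Char.JankoOne
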