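import Cfsg.Agent.Lib.Char.JankoOne.Block
import Cfsg.Agent.Lib.Char.JankoOne.Local
import Cfsg.Agent.Lib.Char.JankoOne.Projection
import Cfsg.Agent.Lib.Char.JankoOne.Five
import Cfsg.Agent.Lib.Char.JankoOne.Rows
import Cfsg.Agent.Lib.Block.ElemEight.Column
import Cfsg.Agent.Lib.Block.PrincipalColumn

/-!
The principal 2-block of the group in the section of the involution.
-/

open scoped ComplexConjugate

set_option autoImplicit false
set_option linter.unusedSectionVars false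
set_option linter.style.haveILetI false

namespace Cfsg.Agent.Char.JankoOne

open Cfsg Cfsg.Agent.Block

universe u

variable {G : Type u} [Group G] [Finite G] {M : Ideal AlgInt} (S : Setting G)

namespace Setting

theorem reg {a : Model} (ha : a ^ 15 = 1) : ¬ 2 ∣ orderOf (S.e.symm a : S.C) := by
  intro h
  have h1 : orderOf (S.e.symm a : S.C) ∣ 15 := by
    rw [MulEquiv.orderOf_eq]
    exact orderOf_dvd_of_pow_eq_one ha
  exact absurd (h.trans h1) (by norm_num)

theorem reg_converse {c : S.C} (hc : ¬ 2 ∣ orderOf c) : (S.e c) ^ 15 = 1 := by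
  rw [← orderOf_dvd_iff_pow_eq_one, MulEquiv.orderOf_eq]
  have h : orderOf c ∣ 2 * 15 := by
    rw [← MulEquiv.orderOf_eq S.e]
    exact orderOf_dvd_of_pow_eq_one (pow_thirty _)
  exact (Nat.Coprime.dvd_mul_left (Nat.Coprime.symm ((Nat.prime_two.coprime_iff_not_dvd).2 hc))).1 h

theorem hz : ∃ k : ℕ, orderOf S.t = 2 ^ k := ⟨1, by rw [S.ht, pow_one]⟩

theorem ι_comm (a : Model) : S.ι a * S.t = S.t * S.ι a := by
  rw [← S.ι_tt, ← map_mul, ← map_mul, tt_central]

theorem ι_mul_t (a : Model) : S.t * S.ι a = S.ι (tt * a) := by rw [map_mul, S.ι_tt]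

theorem isPPart_t {a : Model} (ha : a ^ 15 = 1) : IsPPart 2 (S.t * S.ι a) S.t :=
  ⟨S.ι a, rfl, (S.ι_comm a).symm, S.hz, by
    rw [ι_apply, Subgroup.orderOf_coe]; exact S.reg ha⟩

/-- The members of the principal block. -/
noncomputable def B (M : Ideal AlgInt) : Finset (IrrCharacter G) :=
  open Classical in Finset.univ.filter fun χ => χ ∈ principalBlock M G

theorem mem_B {χ : IrrCharacter G} : χ ∈ B (G := G) M ↔ χ ∈ principalBlock M G := by
  simp [B]

theorem finsum_B (F : IrrCharacter G → ℂ) :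
    ∑ᶠ χ ∈ principalBlock M G, F χ = ∑ χ ∈ B (G := G) M, F χ := by
  classical
  rw [finsum_mem_block]
  exact Finset.sum_congr (by ext; simp [B]) fun _ _ => rfl

/-- The Gram kernel of the section. -/
theorem kernel (hM : IsPModular 2 M) {a b : Model} (ha : a ^ 15 = 1) (hb : b ^ 15 = 1) {m : ℕ}
    (hm : m = if (Finset.univ.filter fun x : Model => x * a * x⁻¹ = b).card = 0 then 0
      else (Finset.univ.filter fun x : Model => x * b = b * x).card) :
    ∑ χ ∈ B (G := G) M, (χ : G → ℂ) (S.t * S.ι a) * conj ((χ : G → ℂ) (S.t * S.ι b)) =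
      (m : ℂ) - 2 * ((psi a.2 * psi b.2 : ℤ) : ℂ) := by
  classical
  haveI : Fact (Nat.Prime 2) := ⟨Nat.prime_two⟩
  rw [← finsum_B]
  refine (ElemEight.principal_column_pair hM S.hz (y := S.e.symm a) (S.reg ha)
    (y' := S.e.symm b) (S.reg hb)).trans ?_
  rw [block_kernel S.e hM (by rw [MulEquiv.apply_symm_apply]; exact ha)
    (by rw [MulEquiv.apply_symm_apply]; exact hb), cent_card S.e]
  simp only [isConj_iff_model S.e, MulEquiv.apply_symm_apply]
  subst hm
  by_cases h : ∃ x : Model, x * a * x⁻¹ = b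
  · rw [if_pos h, if_neg]
    obtain ⟨x, hx⟩ := h
    exact Finset.card_ne_zero.2 ⟨x, Finset.mem_filter.2 ⟨Finset.mem_univ _, hx⟩⟩
  · rw [if_neg h, if_pos, Nat.cast_zero]
    exact Finset.card_eq_zero.2 (Finset.filter_eq_empty_iff.2 fun x _ hx => h ⟨x, hx⟩)

/-- The class multiplication coefficients in the section. -/
theorem product_value {a : Model} (ha : a ^ 15 = 1) :
    ∑ χ : IrrCharacter G, (χ : G → ℂ) S.t ^ 2 / (χ : G → ℂ) 1 * (χ : G → ℂ) (S.t * S.ι a) =
      14400 * (pairs a⁻¹ : ℂ) / (Nat.card G : ℂ) := by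
  classical
  cases nonempty_fintype G
  set u := S.t * S.ι a with hu
  have hexp : ∑ χ : IrrCharacter G, (χ : G → ℂ) S.t ^ 2 / (χ : G → ℂ) 1 * (χ : G → ℂ) u =
      (Nat.card G : ℂ)⁻¹ * ∑ g : G, ∑ χ : IrrCharacter G,
        (χ : G → ℂ) (S.t * (g * S.t * g⁻¹)) * conj ((χ : G → ℂ) u⁻¹) := by
    rw [Finset.sum_comm, Finset.mul_sum]
    refine Finset.sum_congr rfl fun χ _ => ?_
    rw [← Finset.sum_mul, Block.sum_mul_conj, irr_apply_inv, Complex.conj_conj]
    field_simp [Nat.card_pos.ne']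
  have hu' : u⁻¹ = S.ι (tt * a⁻¹) := by
    rw [hu, mul_inv_rev, S.t_inv, ← map_inv, S.ι_comm, S.ι_mul_t]
  rw [hexp, Finset.sum_congr rfl (g := fun g : G => if IsConj (S.t * (g * S.t * g⁻¹)) u⁻¹ then
      (Nat.card (Subgroup.centralizer ({u⁻¹} : Set G)) : ℂ) else 0)
      (fun g _ => (sum_irr_mul_conj (S.t * (g * S.t * g⁻¹)) u⁻¹).trans (by split_ifs <;> rfl)),
    (show (∑ g : G, if IsConj (S.t * (g * S.t * g⁻¹)) u⁻¹ then
        (Nat.card (Subgroup.centralizer ({u⁻¹} : Set G)) : ℂ) else 0) =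
        ((14400 * pairs a⁻¹ : ℕ) : ℂ) from ?_)]
  · push_cast
    ring
  · rw [← Finset.sum_filter, Finset.sum_const, nsmul_eq_mul, ← Nat.cast_mul, S.count_products u⁻¹, hu',
      S.count_pairs (by rw [inv_pow, ha, inv_one])]

/-- The principal block part of the class multiplication coefficients. -/
theorem product_block (hM : IsPModular 2 M) {a : Model} (ha : a ^ 15 = 1) :
    ∑ χ ∈ B (G := G) M, (χ : G → ℂ) S.t ^ 2 / (χ : G → ℂ) 1 * (χ : G → ℂ) (S.t * S.ι a) =
      14400 * (pairs a⁻¹ : ℂ) / (Nat.card G : ℂ) := by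
  classical
  haveI : Fact (Nat.Prime 2) := ⟨Nat.prime_two⟩
  cases nonempty_fintype S.C
  rw [← finsum_B]
  refine (principal_project hM S.hz (y := S.e.symm a) (S.reg ha)
    (fun χ => (χ : G → ℂ) S.t ^ 2 / (χ : G → ℂ) 1)).trans ?_
  rw [S.card_C, sum_model S.e]
  set Φ : Model → ℂ := fun b => 14400 * (pairs b⁻¹ : ℂ) / (Nat.card G : ℂ) with hΦ
  have hterm : ∀ b : Model,
      (∑ᶠ ξ ∈ principalBlock M S.C, (ξ : S.C → ℂ) (S.e.symm a) * conj ((ξ : S.C → ℂ) (S.e.symm b))) *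
        (∑ χ : IrrCharacter G, (χ : G → ℂ) S.t ^ 2 / (χ : G → ℂ) 1 *
          (χ : G → ℂ) (S.t * ((S.e.symm b : S.C) : G))) =
      (if IsConj (S.e.symm a) (S.e.symm b) then
          (Nat.card (Subgroup.centralizer ({S.e.symm a} : Set S.C)) : ℂ) * Φ a else 0) -
        2 * (psi a.2 : ℂ) * 14400 / (Nat.card G : ℂ) *
          ((if b ^ 15 = 1 then psi b.2 * (pairs b⁻¹ : ℤ) else 0 : ℤ) : ℂ) := by
    intro b
    by_cases hb : b ^ 15 = 1
    · rw [block_kernel S.e hM (by rw [MulEquiv.apply_symm_apply]; exact ha)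
        (by rw [MulEquiv.apply_symm_apply]; exact hb), if_pos hb, ← ι_apply, S.product_value hb,
        MulEquiv.apply_symm_apply, MulEquiv.apply_symm_apply]
      by_cases hc : IsConj (S.e.symm a) (S.e.symm b)
      · rw [if_pos hc, if_pos hc]
        have hval : Φ a = Φ b := by
          obtain ⟨c, hc'⟩ := isConj_iff.1 hc
          have h1 : IsConj (S.t * S.ι a) (S.t * S.ι b) := by
            refine isConj_iff.2 ⟨(c : G), ?_⟩
            have hct : (c : G) * S.t = S.t * c := Subgroup.mem_centralizer_singleton_iff.1 c.2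
            rw [ι_apply, ι_apply, ← hc', Subgroup.coe_mul, Subgroup.coe_mul, Subgroup.coe_inv,
              ← mul_assoc, hct]
            simp only [mul_assoc]
          simp only [hΦ]
          rw [← S.product_value ha, ← S.product_value hb]
          exact Finset.sum_congr rfl fun χ _ => by
            rw [IsClass.eq_of_isConj (irr_classFun χ) h1]
        have hcard : Nat.card (Subgroup.centralizer ({S.e.symm b} : Set S.C)) =
            Nat.card (Subgroup.centralizer ({S.e.symm a} : Set S.C)) := by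
          have h1 := sum_irr_mul_conj (S.e.symm a) (S.e.symm a)
          have h2 := sum_irr_mul_conj (S.e.symm b) (S.e.symm b)
          rw [if_pos (IsConj.refl _)] at h1 h2
          have h3 : (Nat.card (Subgroup.centralizer ({S.e.symm b} : Set S.C)) : ℂ) =
              Nat.card (Subgroup.centralizer ({S.e.symm a} : Set S.C)) := by
            rw [← h1, ← h2]
            exact Finset.sum_congr rfl fun χ _ => by
              rw [IsClass.eq_of_isConj (IsIrr.classFun χ.2) hc]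
          exact_mod_cast h3
        rw [hcard, hval, hΦ]
        push_cast
        ring
      · rw [if_neg hc, if_neg hc]
        push_cast
        ring
    · rw [weak_orth hM (isPBlock_principalBlock (G := S.C)) (S.reg ha) (by
        by_contra h
        have := S.reg_converse h
        rw [MulEquiv.apply_symm_apply] at this
        exact hb this), zero_mul, if_neg hb, Int.cast_zero, mul_zero, sub_zero, if_neg]
      intro hc
      obtain ⟨c, hc'⟩ := isConj_iff.1 hc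
      refine hb ?_
      have := congrArg (fun x => x ^ 15) (congrArg S.e hc')
      simp only [map_mul, map_inv, MulEquiv.apply_symm_apply, conj_pow, ha, mul_one,
        mul_inv_cancel] at this
      exact this.symm
  rw [Finset.sum_congr rfl fun b _ => hterm b, Finset.sum_sub_distrib, ← Finset.mul_sum,
    ← Int.cast_sum, weighted_pairs, Int.cast_zero, mul_zero, sub_zero, ← Finset.sum_filter,
    Finset.sum_const, nsmul_eq_mul, ← mul_assoc, ← mul_assoc]
  simp only [hΦ]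
  refine (mul_left_eq_self₀.2 (Or.inl ?_))
  have horb : (Finset.univ.filter fun b : Model => IsConj (S.e.symm a) (S.e.symm b)).card =
      (Subgroup.centralizer ({S.e.symm a} : Set S.C)).index := by
    have h1 := MulAction.index_stabilizer (ConjAct S.C) (S.e.symm a)
    rw [ConjAct.stabilizer_eq_centralizer] at h1
    refine Eq.trans ?_ h1.symm
    rw [← Nat.card_coe_set_eq, ← Fintype.card_subtype, ← Nat.card_eq_fintype_card]
    refine Nat.card_congr (S.e.symm.toEquiv.subtypeEquiv fun b => ?_)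
    rw [ConjAct.mem_orbit_conjAct]
    exact ⟨fun h => h.symm, fun h => h.symm⟩
  have h2 := Subgroup.card_mul_index (Subgroup.centralizer ({S.e.symm a} : Set S.C))
  rw [horb, mul_assoc, ← Nat.cast_mul, mul_comm _ (Nat.card _), h2, S.card_C]
  norm_num

theorem orth (hM : IsPModular 2 M) {a : Model} (ha : a ^ 15 = 1) {g : G} (hg : ¬ 2 ∣ orderOf g) :
    ∑ χ ∈ B (G := G) M, (χ : G → ℂ) (S.t * S.ι a) * (χ : G → ℂ) g⁻¹ = 0 := by
  classical
  haveI : Fact (Nat.Prime 2) := ⟨Nat.prime_two⟩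
  rw [← finsum_B]
  exact section_orth hM (S.isPPart_t ha) (z := (1 : G))
    ⟨g, one_mul _, Commute.one_left _, ⟨0, by rw [orderOf_one, pow_zero]⟩, hg⟩
    (fun h => S.t_ne (isConj_one_left.1 h)) isPBlock_principalBlock

theorem pow_ten {g : G} (hg : g ^ 10 = 1) {k : ℕ} (hk : k ≡ 7 [MOD 10]) : g ^ k = g ^ 7 := by
  rw [← Nat.mod_add_div k 10, pow_add, pow_mul, hg, one_pow, mul_one, hk]

theorem tt_f5_pow_ten : (tt * ((1, f5) : Model)) ^ 10 = 1 := by decide +kernel

theorem tt_f5_pow_seven : (tt * ((1, f5) : Model)) ^ 7 = tt * (1, f5 * f5) := by decide +kernel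

theorem y3_pow_three : ((1, y3) : Model) ^ 3 = 1 := by decide +kernel

theorem y3_sq_conj : ∃ x : Model, x * (1, y3) * x⁻¹ = (1, y3) ^ 2 := by decide +kernel

/-- The Galois twist. -/
theorem exists_twist (hM : IsPModular 2 M) :
    ∃ τ : IrrCharacter G → IrrCharacter G, Function.Injective τ ∧
      (∀ χ ∈ B (G := G) M, τ χ ∈ B (G := G) M) ∧
      ∀ χ : IrrCharacter G, (τ χ : G → ℂ) 1 = (χ : G → ℂ) 1 ∧
        (τ χ : G → ℂ) S.t = (χ : G → ℂ) S.t ∧
        (τ χ : G → ℂ) (S.t * S.ι (1, f5)) = (χ : G → ℂ) ((S.t * S.ι (1, f5)) ^ 7) ∧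
        (τ χ : G → ℂ) (S.ι (1, y3)) = (χ : G → ℂ) (S.ι (1, y3)) := by
  classical
  cases nonempty_fintype G
  haveI : Fact (Nat.Prime 2) := ⟨Nat.prime_two⟩
  have h10 : 10 ∣ Nat.card G := by
    refine (Nat.Coprime.mul_dvd_of_dvd_of_dvd (show Nat.Coprime 2 5 by norm_num) ?_ ?_)
    · exact S.ht ▸ orderOf_dvd_natCard S.t
    · exact Dvd.dvd.trans (by rw [S.card_C]; norm_num) (Subgroup.card_subgroup_dvd_card S.C)
  obtain ⟨k, hk, hk7⟩ := exists_coprime_lift (k := 7) Nat.card_pos h10 (by norm_num)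
  obtain ⟨σ, hσ⟩ := Cfsg.Agent.Char.exists_galois (G := G) k hk
  refine ⟨PrinCol.galIrr σ, fun a b h => Subtype.ext (funext fun g => σ.injective
    (congrFun (congrArg Subtype.val h) g)), fun χ hχ => mem_B.2 (PrinCol.galIrr_mem hM σ (mem_B.1 hχ)),
    fun χ => ?_⟩
  have happ : ∀ g : G, (PrinCol.galIrr σ χ : G → ℂ) g = (χ : G → ℂ) (g ^ k) := fun g =>
    hσ _ (IsIrr.isCharacter χ.2) g
  have hmod : ∀ g : G, g ^ 10 = 1 → g ^ k = g ^ 7 := fun g hg => pow_ten hg hk7
  refine ⟨by rw [happ, one_pow], ?_, ?_, ?_⟩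
  · rw [happ, hmod _ (by rw [show 10 = 2 * 5 by norm_num, pow_mul, pow_two, S.t_sq, one_pow]),
      show 7 = 2 * 3 + 1 by norm_num, pow_succ, pow_mul, pow_two, S.t_sq, one_pow, one_mul]
  · rw [happ, hmod]
    rw [← map_one S.ι, S.ι_mul_t, ← map_pow]
    exact congrArg S.ι tt_f5_pow_ten
  · rw [happ, ← map_pow]
    have hr : ((1, y3) : Model) ^ 3 = 1 := y3_pow_three
    have hk3 : Nat.Coprime k 3 := Nat.Coprime.coprime_dvd_right
      (Dvd.dvd.trans (by rw [S.card_C]; norm_num) (Subgroup.card_subgroup_dvd_card S.C)) hk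
    have h3 : k % 3 = 1 ∨ k % 3 = 2 := by
      have : k % 3 ≠ 0 := fun h => by
        have := Nat.dvd_of_mod_eq_zero h
        exact absurd (Nat.eq_one_of_dvd_coprimes hk3 this dvd_rfl) (by norm_num)
      omega
    rw [← Nat.mod_add_div k 3, pow_add, pow_mul, hr, one_pow, mul_one]
    rcases h3 with h | h <;> rw [h]
    · rw [pow_one]
    · refine (IsClass.eq_of_isConj (irr_classFun χ) ?_).symm
      obtain ⟨x, hx⟩ := y3_sq_conj
      exact isConj_iff.2 ⟨S.ι x, by rw [← map_inv, ← map_mul, ← map_mul, hx]⟩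

theorem exists_gram (hM : IsPModular 2 M) :
    ∃ (τ : IrrCharacter G → IrrCharacter G) (v0 v1 v2 : IrrCharacter G → ℤ),
      Gram (B (G := G) M) (trivialIrr G) τ v0 v1 v2 ∧
      (∀ χ : IrrCharacter G, (τ χ : G → ℂ) 1 = (χ : G → ℂ) 1 ∧
        (τ χ : G → ℂ) (S.ι (1, y3)) = (χ : G → ℂ) (S.ι (1, y3))) ∧
      ∀ χ : IrrCharacter G, (χ : G → ℂ) S.t = v0 χ + 2 * v1 χ + 2 * v2 χ ∧
        (χ : G → ℂ) (S.t * S.ι (1, f5)) =
          ((v0 χ - v2 χ : ℤ) : ℂ) + ((v1 χ - v2 χ : ℤ) : ℂ) * W := by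
  classical
  obtain ⟨τ, hinj, hτB, hτv⟩ := S.exists_twist hM
  set h := S.t * S.ι (1, f5) with hh
  have h10 : h ^ 10 = 1 := by
    rw [hh, S.ι_mul_t, ← map_pow, show (tt * ((1, f5) : Model)) ^ 10 = 1 by decide +kernel, map_one]
  have h5 : h ^ 5 = S.t := by
    rw [hh, S.ι_mul_t, ← map_pow, show (tt * ((1, f5) : Model)) ^ 5 = tt by decide +kernel, S.ι_tt]
  have hreal : ∀ χ : IrrCharacter G, (χ : G → ℂ) h⁻¹ = (χ : G → ℂ) h := by
    intro χ
    obtain ⟨x, hx⟩ := (show ∃ x : Model, x * (tt * (1, f5)) * x⁻¹ = (tt * (1, f5))⁻¹ by decide +kernel)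
    refine (IsClass.eq_of_isConj (irr_classFun χ) (isConj_iff.2 ⟨S.ι x, ?_⟩)).symm
    rw [hh, S.ι_mul_t, ← map_inv, ← map_mul, ← map_mul, hx, map_inv]
  choose v0 v1 v2 hv using fun χ : IrrCharacter G => five_coords (IsIrr.isCharacter χ.2) h10 (hreal χ)
  have hvt : ∀ χ : IrrCharacter G, (χ : G → ℂ) S.t = v0 χ + 2 * v1 χ + 2 * v2 χ := fun χ => by
    rw [← h5]; exact (hv χ).1
  -- uniqueness of the coordinates
  have huniq : ∀ (χ : IrrCharacter G) (a b c : ℤ), (χ : G → ℂ) S.t = a + 2 * b + 2 * c →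
      (χ : G → ℂ) h = ((a - c : ℤ) : ℂ) + ((b - c : ℤ) : ℂ) * W →
      v0 χ = a ∧ v1 χ = b ∧ v2 χ = c := by
    intro χ a b c e1 e2
    rw [hvt] at e1
    rw [(hv χ).2.1] at e2
    obtain ⟨e3, e4⟩ := W_ext e2
    have e5 : v0 χ + 2 * v1 χ + 2 * v2 χ = a + 2 * b + 2 * c := by exact_mod_cast e1
    omega
  have hswap : ∀ χ : IrrCharacter G, v0 (τ χ) = v0 χ ∧ v1 (τ χ) = v2 χ ∧ v2 (τ χ) = v1 χ := by
    intro χ
    refine huniq (τ χ) (v0 χ) (v2 χ) (v1 χ) ?_ ?_
    · rw [(hτv χ).2.1, hvt]; ring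
    · rw [(hτv χ).2.2.1]; exact (hv χ).2.2
  have he0 : v0 (trivialIrr G) = 1 ∧ v1 (trivialIrr G) = 0 ∧ v2 (trivialIrr G) = 0 := by
    refine huniq _ 1 0 0 ?_ ?_ <;> norm_num <;> rfl
  -- the sums
  have hconjv : ∀ χ : IrrCharacter G, conj ((χ : G → ℂ) h) = (χ : G → ℂ) h := fun χ => by
    rw [← irr_apply_inv, hreal]
  have hconjt : ∀ χ : IrrCharacter G, conj ((χ : G → ℂ) S.t) = (χ : G → ℂ) S.t := fun χ => by
    rw [← irr_apply_inv, S.t_inv]
  have hone : S.t * S.ι 1 = S.t := by rw [map_one, mul_one]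
  have k11 := S.kernel hM (a := 1) (b := 1) (one_pow _) (one_pow _) (m := 120) (by decide +kernel)
  have k1f := S.kernel hM (a := 1) (b := (1, f5)) (one_pow _) (by decide +kernel) (m := 0)
    (by decide +kernel)
  have kff := S.kernel hM (a := (1, f5)) (b := (1, f5)) (by decide +kernel) (by decide +kernel)
    (m := 10) (by decide +kernel)
  have kfg := S.kernel hM (a := (1, f5)) (b := (1, f5 * f5)) (by decide +kernel) (by decide +kernel)
    (m := 0) (by decide +kernel)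
  rw [hone] at k11 k1f
  rw [← hh] at k1f kff kfg
  have h7 : S.t * S.ι (1, f5 * f5) = h ^ 7 := by
    rw [hh, S.ι_mul_t, S.ι_mul_t, ← map_pow]
    exact congrArg S.ι (by decide +kernel)
  rw [h7] at kfg
  have p1 : psi (1 : Model).2 = 4 := by decide +kernel
  have p5 : psi ((1, f5) : Model).2 = -1 := by decide +kernel
  have p55 : psi ((1, f5 * f5) : Model).2 = -1 := by decide +kernel
  simp only [p1, p5, p55] at k11 k1f kff kfg
  set B0 := B (G := G) M with hB0
  set σ : IrrCharacter G → ℤ := fun χ => v0 χ + 2 * v1 χ + 2 * v2 χ with hσ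
  set α : IrrCharacter G → ℤ := fun χ => v0 χ - v2 χ with hα
  set β : IrrCharacter G → ℤ := fun χ => v1 χ - v2 χ with hβ
  have hσv : ∀ χ : IrrCharacter G, (χ : G → ℂ) S.t = σ χ := fun χ => by
    rw [hvt, hσ]; push_cast; ring
  have hhv : ∀ χ : IrrCharacter G, (χ : G → ℂ) h = (α χ : ℂ) + (β χ : ℂ) * W := fun χ => (hv χ).2.1
  have h7v : ∀ χ : IrrCharacter G, conj ((χ : G → ℂ) (h ^ 7)) =
      (α χ : ℂ) + (β χ : ℂ) * (-1 - W) := fun χ => by
    rw [(hv χ).2.2, hα, hβ, map_add, map_mul, W_conj, map_intCast, map_intCast]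
    push_cast
    ring
  have sss : ∑ χ ∈ B0, σ χ ^ 2 = 88 := by
    have : ((∑ χ ∈ B0, σ χ ^ 2 : ℤ) : ℂ) = ((88 : ℤ) : ℂ) := by
      push_cast
      rw [Finset.sum_congr rfl (g := fun χ : IrrCharacter G => (χ : G → ℂ) S.t * conj ((χ : G → ℂ) S.t))
        (fun χ _ => by rw [hconjt, hσv, sq]), k11]
      norm_num
    exact_mod_cast this
  obtain ⟨ssa, ssb⟩ : ∑ χ ∈ B0, σ χ * α χ = 8 ∧ ∑ χ ∈ B0, σ χ * β χ = 0 := by
    refine W_ext ?_
    push_cast
    rw [Finset.sum_mul, ← Finset.sum_add_distrib,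
      Finset.sum_congr rfl (g := fun χ : IrrCharacter G => (χ : G → ℂ) S.t * conj ((χ : G → ℂ) h))
      (fun χ _ => by rw [hconjv, hσv, hhv]; ring), k1f]
    norm_num
  obtain ⟨e1, e2⟩ : ∑ χ ∈ B0, (α χ ^ 2 + β χ ^ 2) = 8 ∧
      ∑ χ ∈ B0, (2 * (α χ * β χ) - β χ ^ 2) = 0 := by
    refine W_ext ?_
    push_cast
    rw [Finset.sum_mul, ← Finset.sum_add_distrib,
      Finset.sum_congr rfl (g := fun χ : IrrCharacter G => (χ : G → ℂ) h * conj ((χ : G → ℂ) h))
      (fun χ _ => by rw [hconjv, hhv]; linear_combination -((β χ : ℂ) * β χ) * W_sq), kff]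
    norm_num
  have e3 : ∑ χ ∈ B0, (α χ ^ 2 - α χ * β χ - β χ ^ 2) = -2 := by
    have : ((∑ χ ∈ B0, (α χ ^ 2 - α χ * β χ - β χ ^ 2) : ℤ) : ℂ) = ((-2 : ℤ) : ℂ) := by
      push_cast
      rw [Finset.sum_congr rfl (g := fun χ : IrrCharacter G => (χ : G → ℂ) h * conj ((χ : G → ℂ) (h ^ 7)))
        (fun χ _ => by rw [h7v, hhv]; linear_combination ((β χ : ℂ) * β χ) * W_sq), kfg]
      norm_num
    exact_mod_cast this
  simp only [Finset.sum_add_distrib, Finset.sum_sub_distrib, ← Finset.mul_sum] at e1 e2 e3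
  have hlin : ∀ (p q r p' q' r' : ℤ) (f g : IrrCharacter G → ℤ),
      (∀ χ, f χ = p * σ χ + q * α χ + r * β χ) → (∀ χ, g χ = p' * σ χ + q' * α χ + r' * β χ) →
      ∑ χ ∈ B0, f χ * g χ = p * p' * 88 + (p * q' + q * p') * 8 + q * q' * 4 + r * r' * 4 +
        (q * r' + r * q') * 2 := by
    intro p q r p' q' r' f g hf hg
    have : ∀ χ ∈ B0, f χ * g χ = p * p' * σ χ ^ 2 + (p * q' + q * p') * (σ χ * α χ) +
        (p * r' + r * p') * (σ χ * β χ) + q * q' * α χ ^ 2 + (q * r' + r * q') * (α χ * β χ) +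
        r * r' * β χ ^ 2 := fun χ _ => by rw [hf, hg]; ring
    rw [Finset.sum_congr rfl this]
    simp only [Finset.sum_add_distrib, ← Finset.mul_sum, sss, ssa, ssb,
      show ∑ χ ∈ B0, α χ ^ 2 = 4 by omega, show ∑ χ ∈ B0, β χ ^ 2 = 4 by omega,
      show ∑ χ ∈ B0, α χ * β χ = 2 by omega]
    ring
  have f0 : ∀ χ, 5 * v0 χ = 1 * σ χ + 4 * α χ + (-2) * β χ := fun χ => by
    simp only [hσ, hα, hβ]; ring
  have f1 : ∀ χ, 5 * v1 χ = 1 * σ χ + (-1) * α χ + 3 * β χ := fun χ => by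
    simp only [hσ, hα, hβ]; ring
  have f2 : ∀ χ, 5 * v2 χ = 1 * σ χ + (-1) * α χ + (-2) * β χ := fun χ => by
    simp only [hσ, hα, hβ]; ring
  have hpull : ∀ f g : IrrCharacter G → ℤ, ∑ χ ∈ B0, 5 * f χ * (5 * g χ) = 25 * ∑ χ ∈ B0, f χ * g χ :=
    fun f g => by rw [Finset.mul_sum]; exact Finset.sum_congr rfl fun χ _ => by ring
  refine ⟨τ, v0, v1, v2, ⟨mem_B.2 (trivial_mem_principalBlock hM), he0,
    fun χ hχ => ⟨hτB χ hχ, hswap χ⟩, hinj, ?_, ?_, ?_, ?_, ?_, ?_⟩, fun χ => ⟨(hτv χ).1, (hτv χ).2.2.2⟩,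
    fun χ => ⟨hvt χ, (hv χ).2.1⟩⟩
  · have := hlin _ _ _ _ _ _ _ _ f0 f0; rw [hpull] at this; simp only [pow_two]; omega
  · have := hlin _ _ _ _ _ _ _ _ f1 f1; rw [hpull] at this; simp only [pow_two]; omega
  · have := hlin _ _ _ _ _ _ _ _ f2 f2; rw [hpull] at this; simp only [pow_two]; omega
  · have := hlin _ _ _ _ _ _ _ _ f0 f1; rw [hpull] at this; omega
  · have := hlin _ _ _ _ _ _ _ _ f0 f2; rw [hpull] at this; omega
  · have := hlin _ _ _ _ _ _ _ _ f1 f2; rw [hpull] at this; omega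

end Setting

end Cfsg.Agent.Char.JankoOne
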